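import Groth.Agent.Krr.H443.GenPos3
import Groth.Agent.Krr.H442.AmpleClass
import Groth.Agent.Krr.H487.KerRank
import Groth.Agent.Krr.H483.LamTwist
import Groth.Agent.Sga67.LocBasisStalk

/-!
# The geometric input for the dimension theorem

`geo_model`: for `X` Noetherian of dimension `≤ d` with an ample module `L`, `u = [L⁻¹]` satisfies `Geo P d u`.
`dvan_model`: hence `λ^i (x + d) = 0` for `i > d` and `x` of augmentation `0`.
-/

set_option autoImplicit false
universe v u

open CategoryTheory CategoryTheory.Limits AlgebraicGeometry Opposite TopologicalSpace KRR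
open scoped ZeroObject

namespace Groth.Agent.Krr.H443.GeoModel

open Groth.Agent.Sga67.Sec Groth.Agent.Sga67.LocBasis Groth.Agent.Sga67.LocBasisStalk
open Groth.Agent.Krr.H443.GenPos2 Groth.Agent.Krr.H443.GenPos3 Groth.Agent.Krr.H443.GamAlg
open Groth.Agent.Krr.H442.AmpleClass (model_ses model_pow cl_eq_zero_of_rank_zero)
open Groth.Agent.Krr.H487.KerRank

variable {X : Scheme.{u}}

theorem span_of_isLocBasis {M : X.Modules} {U : X.Opens} {κ : Type*} [Fintype κ] {b : κ → Sec M U}
    (hb : IsLocBasis b) (x : X) (hx : x ∈ U) :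
    Submodule.span (X.presheaf.stalk x) (Set.range fun i => ger M x hx (b i)) = ⊤ := by
  rw [eq_top_iff]
  rintro t -
  obtain ⟨V, hV, s, rfl⟩ := exists_ger M x t
  obtain ⟨a, ha⟩ := (hb (V ⊓ U) inf_le_right).2 (res M inf_le_left s)
  rw [← ger_res M (inf_le_left : V ⊓ U ≤ V) x ⟨hV, hx⟩, ← ha, ger_comb]
  exact Submodule.sum_mem _ fun k _ => Submodule.smul_mem _ _ (Submodule.subset_span ⟨k, rfl⟩)

theorem exists_gen_of_rank {n : ℕ} {M : X.Modules} (hM : FlatMod.IsFinLocFreeOfRank n M) (x : X) :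
    ∃ m : Fin n → M.presheaf.stalk x, Submodule.span (X.presheaf.stalk x) (Set.range m) = ⊤ := by
  obtain ⟨U, hU, b, hb⟩ := (isFinLocFreeOfRank_iff _).mp hM x
  exact ⟨_, span_of_isLocBasis hb x hU⟩

variable {K : Type v} [CommRing K] [LambdaRing.LambdaOps K] {P : LambdaRing.PosStructure K}
  {φ : SGA6.Kvb X →+ K}

theorem isFinLocFreeOfRank_tensorPow {M : X.Modules} (hM : FlatMod.IsFinLocFreeOfRank 1 M) (i : ℕ) :
    FlatMod.IsFinLocFreeOfRank 1 (CohB1.tensorPow M i) := by
  induction i with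
  | zero => exact Groth.Agent.Krr.H495.Rank.isFinLocFreeOfRank_structureModule
  | succ i ih => exact isFinLocFreeOfRank_tensor ih hM

theorem rank_sumK {M : X.Modules} (hM : FlatMod.IsFinLocFreeOfRank 1 M) (l : List ℕ) :
    FlatMod.IsFinLocFreeOfRank l.length (sumK (fun n => CohB1.tensorPow M n) l) := by
  induction l with
  | nil =>
    have h0 : IsZero (sumK (fun n => CohB1.tensorPow M n) []) := isZero_zero _
    apply isFinLocFreeOfRank_of_exists
    intro x
    refine ⟨⊤, Fin 0, inferInstance, Fin.elim0, trivial, rfl, fun V hV => ⟨?_, ?_⟩⟩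
    · intro a b _
      exact Subsingleton.elim _ _
    · intro s
      refine ⟨0, ?_⟩
      have h1 : ∀ s : Sec (sumK (fun n => CohB1.tensorPow M n) []) V, s = 0 := by
        intro s
        have h2 := congrArg (fun g => appS g V s) ((IsZero.iff_id_eq_zero _).1 h0)
        exact h2
      rw [h1 s, map_zero]
  | cons n l ih =>
    have h := Groth.Agent.Krr.H495.Rank.rank_biprod (isFinLocFreeOfRank_tensorPow hM n) ih
    rw [List.length_cons, add_comm]
    exact h

theorem cl_sumK (hK : IsModel X K P φ) {M : X.Modules} (hM : FlatMod.IsFinLocFreeOfRank 1 M)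
    (l : List ℕ) : φ (cl X (sumK (fun n => CohB1.tensorPow M n) l)) =
      (l.map fun n => φ (cl X M) ^ n).sum := by
  induction l with
  | nil =>
    rw [cl_eq_zero_of_rank_zero (rank_sumK hM []), map_zero]
    rfl
  | cons n l ih =>
    have h1 := isFinLocFree_of_rank (isFinLocFreeOfRank_tensorPow hM n)
    have h2 := isFinLocFree_of_rank (rank_sumK hM l)
    have h := model_ses φ (Groth.Agent.Krr.H495.Rank.shortExact_biprod (CohB1.tensorPow M n)
      (sumK (fun n => CohB1.tensorPow M n) l)) h1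
      (Groth.Agent.Krr.H495.Rank.isFinLocFree_biprod h1 h2) h2
    rw [List.map_cons, List.sum_cons, ← ih, ← model_pow hK (isFinLocFree_of_rank hM) n]
    exact h

/-- The geometric input. -/
theorem geo_model [IsNoetherian X] {L L' : X.Modules} (hL : CohB1.IsAmple L)
    (hL' : FlatMod.IsFinLocFreeOfRank 1 L') (e : CohB1.tensorMod L L' ≅ Coh.structureModule X)
    (d : ℕ) (hd : topologicalKrullDim ↥X ≤ (d : WithBot ℕ∞)) (hK : IsModel X K P φ) :
    Geo P d (φ (cl X L')) := by
  intro x hx t ht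
  obtain ⟨n, E, hn, hE, rfl⟩ := (hK.mem_pos_iff x).1 hx
  rw [hK.aug_cl n E hE] at ht
  have hnt : n = t := by exact_mod_cast ht
  subst hnt
  have hE' := isFinLocFree_of_rank hE
  have hL'' : PicF.IsInvertible L' := Groth.Agent.Ega2.QCohLocal.isFinLocFreeOfRank_one_iff.mp hL'
  refine (rapid_epi_ample hL hL'' e (Groth.Agent.PerfA.CohSerre.isCoh_of_isFinLocFree hE') d n hd
    (exists_gen_of_rank hE)).mono fun l hl ⟨g, hg⟩ => ?_
  have hs := rank_sumK hL' l
  rw [hl, add_comm] at hs
  have hker := isFinLocFreeOfRank_kernel g hs hE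
  have hses := model_ses φ (shortExact_kernel g) (isFinLocFree_of_rank hker)
    (isFinLocFree_of_rank hs) hE'
  refine ⟨φ (cl X (kernel g)), ?_, ?_⟩
  · rw [← cl_sumK hK hL', add_comm]
    exact hses
  · rcases Nat.eq_zero_or_pos d with rfl | hd0
    · left
      exact ⟨rfl, by rw [cl_eq_zero_of_rank_zero hker, map_zero]⟩
    · right
      exact ⟨(hK.mem_pos_iff _).2 ⟨d, kernel g, hd0, hker, rfl⟩, hK.aug_cl d _ hker⟩

/-- An invertible module has an inverse, locally free of rank one. -/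
theorem exists_inv {L : X.Modules} (hL : PicF.IsInvertible L) :
    ∃ L' : X.Modules, FlatMod.IsFinLocFreeOfRank 1 L' ∧
      Nonempty (CohB1.tensorMod L L' ≅ Coh.structureModule X) := by
  refine ⟨_, Groth.Agent.Ega2.QCohLocal.isFinLocFreeOfRank_one_iff.mpr
    (Groth.Agent.Grpsch.PicGrp.isInvertible_dual hL), ?_⟩
  rw [← Groth.Agent.Grpsch.PicGrp.mk_eq_one_iff (Groth.Agent.Fdesc.LocGen.isInvertible_tensorMod hL
    (Groth.Agent.Grpsch.PicGrp.isInvertible_dual hL)), ← Groth.Agent.Grpsch.PicGrp.mk_mul_mk hL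
    (Groth.Agent.Grpsch.PicGrp.isInvertible_dual hL), ← Groth.Agent.Grpsch.PicGrp.inv_mk hL,
    mul_inv_cancel]

theorem dvan_model [IsNoetherian X] {L : X.Modules} (hL : CohB1.IsAmple L) (d : ℕ)
    (hd : topologicalKrullDim ↥X ≤ (d : WithBot ℕ∞)) (hK : IsModel X K P φ) : Dvan P d := by
  obtain ⟨L', hL', ⟨e⟩⟩ := exists_inv hL.1
  exact dvan_of_geo P (Groth.Agent.Krr.H483.LamTwist.isLine_cl hK hL') (geo_model hL hL' e d hd hK)

end Groth.Agent.Krr.H443.GeoModel
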