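import Groth.Prelude.Def_KRR
import Groth.Agent.CohqB.ProjBC
import Groth.Agent.Sga5.ProjSmooth
import Mathlib.Topology.KrullDimension
import Mathlib.RingTheory.KrullDimension.Polynomial

/-!
# The dimension of `P^n_X`

`topologicalKrullDim_PY_le`: `X` Noetherian of dimension `≤ d` implies `dim P^n_X ≤ d + n`.
-/

set_option autoImplicit false
universe u

open CategoryTheory CategoryTheory.Limits AlgebraicGeometry TopologicalSpace

namespace Groth.Agent.Krr.H443.PnDim

/-- The dimension is local. -/
theorem topologicalKrullDim_le_of_local {T : Type*} [TopologicalSpace T] (d : WithBot ℕ∞)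
    (h : ∀ x : T, ∃ U : Set T, IsOpen U ∧ x ∈ U ∧ topologicalKrullDim U ≤ d) :
    topologicalKrullDim T ≤ d := by
  refine iSup_le fun p => ?_
  obtain ⟨x, hx⟩ := p.head.2.1
  obtain ⟨U, hU, hxU, hUd⟩ := h x
  refine le_trans ?_ hUd
  have hle : ∀ i, (p.head : Set T) ⊆ p i := fun i => LTSeries.head_le p i
  have hmem : ∀ i, x ∈ (p i : Set T) := fun i => hle i hx
  let q : LTSeries (IrreducibleCloseds U) :=
    { length := p.length
      toFun := fun i => ⟨(Subtype.val : U → T) ⁻¹' (p i : Set T),
        ⟨⟨(⟨x, hxU⟩ : U), hmem i⟩, (p i).2.2.preimage hU.isOpenEmbedding_subtypeVal⟩,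
        (p i).3.preimage continuous_subtype_val⟩
      step := fun i => by
        have h1 : p i.castSucc < p i.succ := p.step i
        refine show (_ : IrreducibleCloseds U) < _ from lt_of_le_of_ne ?_ ?_
        · exact fun y hy => (show (p i.castSucc : Set T) ⊆ p i.succ from le_of_lt h1) hy
        · intro h2
          have h3 : ((↑) ⁻¹' (p i.castSucc : Set T) : Set U) = (↑) ⁻¹' (p i.succ : Set T) :=
            congrArg (fun z : IrreducibleCloseds U => (z : Set U)) h2
          have h4 : (p i.succ : Set T) ⊆ (p i.castSucc : Set T) ∪ Uᶜ := by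
            intro y hy
            by_cases hyU : y ∈ U
            · left
              have : (⟨y, hyU⟩ : U) ∈ ((↑) ⁻¹' (p i.succ : Set T) : Set U) := hy
              rw [← h3] at this
              exact this
            · exact Or.inr hyU
          rcases isPreirreducible_iff_isClosed_union_isClosed.1 (p i.succ).2.2 _ _
            (p i.castSucc).3 hU.isClosed_compl h4 with h5 | h5
          · exact not_lt_of_ge (show p i.succ ≤ p i.castSucc from h5) h1
          · exact (h5 (hmem _)) hxU }
  exact Order.LTSeries.length_le_krullDim q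

theorem topologicalKrullDim_le_of_charts {X : Scheme.{u}} (d : WithBot ℕ∞)
    (h : ∀ x : X, ∃ (B : Type u) (_ : CommRing B) (j : Spec (CommRingCat.of B) ⟶ X)
      (_ : IsOpenImmersion j), x ∈ Set.range j ∧ ringKrullDim B ≤ d) :
    topologicalKrullDim X ≤ d := by
  apply topologicalKrullDim_le_of_local
  intro x
  obtain ⟨B, _, j, hj, hx, hB⟩ := h x
  refine ⟨Set.range j, j.isOpenEmbedding.isOpen_range, hx, ?_⟩
  have h1 := IsHomeomorph.topologicalKrullDim_eq _ (j.isOpenEmbedding.toHomeomorph).isHomeomorph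
  rw [← h1]
  exact (PrimeSpectrum.topologicalKrullDim_eq_ringKrullDim (R := B)).trans_le hB

open Groth.Agent.CohqB.ProjBC

/-- `dim P^n_X ≤ d + n`. -/
theorem topologicalKrullDim_PY_le {X : Scheme.{u}} [IsNoetherian X] (d n : ℕ)
    (hd : topologicalKrullDim X ≤ (d : WithBot ℕ∞)) :
    topologicalKrullDim (KRR.PY n X) ≤ ((d + n : ℕ) : WithBot ℕ∞) := by
  apply topologicalKrullDim_le_of_charts
  intro x
  let π : KRR.PY n X ⟶ X := KRR.pr n X
  obtain ⟨V, hV, hxV, -⟩ := exists_isAffineOpen_mem_and_subset (X := X) (U := ⊤) (x := π x) trivial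
  let A : Type u := Γ(X, V)
  have : IsNoetherianRing Γ(X, V) := IsLocallyNoetherian.component_noetherian ⟨V, hV⟩
  let g : Spec Γ(X, V) ⟶ X := hV.fromSpec
  have hsq := isPullback_overMap n g
  have hg : IsOpenImmersion (overMap n g) := by
    have h1 := hsq.flip
    exact MorphismProperty.of_isPullback (P := @IsOpenImmersion) hsq.flip inferInstance
  have hxg : π x ∈ Set.range g := by
    rw [hV.range_fromSpec]; exact hxV
  obtain ⟨y, hy⟩ : x ∈ Set.range (overMap n g) := by
    obtain ⟨z, hz⟩ := hxg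
    obtain ⟨y, hy, -⟩ := Scheme.Pullback.exists_preimage_pullback (f := π) (g := g) x z hz.symm
    refine ⟨hsq.isoPullback.inv y, ?_⟩
    have h1 := hsq.isoPullback_inv_fst
    have h2 := congrArg (fun q => q y) h1
    exact (Scheme.Hom.comp_apply _ _ _).symm.trans (h2.trans hy)
  let e := projSpaceOverIso n Γ(X, V)
  obtain ⟨i, z, hz⟩ := Groth.Agent.Sga5.ProjSmooth.exists_mem_chart n Γ(X, V) (e.hom y)
  refine ⟨MvPolynomial (Fin n) Γ(X, V), inferInstance,
    Groth.Agent.Sga5.ProjSmooth.chart n Γ(X, V) i ≫ e.inv ≫ overMap n g, inferInstance, ⟨z, ?_⟩, ?_⟩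
  · have h1 : Groth.Agent.Sga5.ProjSmooth.chart n Γ(X, V) i z = e.hom y := hz
    have h2 : e.inv (e.hom y) = y := by
      rw [← Scheme.Hom.comp_apply, e.hom_inv_id]; rfl
    rw [Scheme.Hom.comp_apply, Scheme.Hom.comp_apply, h1, h2, hy]
  · rw [MvPolynomial.ringKrullDim_of_isNoetherianRing, Nat.card_fin]
    have h1 : ringKrullDim Γ(X, V) ≤ d := by
      rw [← PrimeSpectrum.topologicalKrullDim_eq_ringKrullDim]
      exact (g.isOpenEmbedding.isInducing.topologicalKrullDim_le).trans hd
    push_cast
    gcongr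

end Groth.Agent.Krr.H443.PnDim
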