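import Groth.Agent.Krr.H443.GamInd
import Groth.Agent.Krr.H443.GeoModel
import Groth.Agent.Krr.H443.PnDim
import Groth.Agent.Krr.H442.ModelIso
import Groth.Agent.Krr.H452.QProjPn
import Groth.Agent.Krr.H452.PnConn
import Groth.Agent.Krr.H482.PullFinal
import Groth.Agent.Krr.H483.LamTwist
import Groth.Agent.Krr.H495.Model

/-!
# The dimension theorem `F^{d+1} K(X) = 0`, given the structure of `K(P^m_X)`

`filtration_eq_bot_of`: the statement of S3744, given for `X` Noetherian connected with an ample module a line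
element `l` of `K(P^m_X)` with `(1 - l)^{m+1} = 0` and `p^K(z) (1 - l)^m = 0 → z = 0`.
-/

set_option autoImplicit false
universe v u

open CategoryTheory CategoryTheory.Limits AlgebraicGeometry KRR
open Groth.Agent.Krr.H443.GamAlg Groth.Agent.Krr.H443.GamInd

namespace Groth.Agent.Krr.H443.DimCond

/-- The input on projective space. -/
def PnInput : Prop :=
  ∀ (X : Scheme.{u}) (_ : IsNoetherian X) (_ : ConnectedSpace X) (L : X.Modules) (_ : CohB1.IsAmple L)
    (m : ℕ) (K : Type (u + 1)) (_ : CommRing K) (_ : LambdaRing.LambdaOps K)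
    (P : LambdaRing.PosStructure K) (φ : SGA6.Kvb X →+ K) (_ : IsModel X K P φ)
    (K' : Type (u + 1)) (_ : CommRing K') (_ : LambdaRing.LambdaOps K')
    (P' : LambdaRing.PosStructure K') (φ' : SGA6.Kvb (PY m X) →+ K') (_ : IsModel (PY m X) K' P' φ')
    (q : K →+ K') (_ : IsPull (pr m X) φ φ' q),
    ∃ l : K', P'.IsLine l ∧ (1 - l) ^ (m + 1) = 0 ∧ ∀ z : K, q z * (1 - l) ^ m = 0 → z = 0

/-- The class of the λ-rings `K(X)`, `X` Noetherian connected with an ample module of dimension `≤ d`. -/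
def Cl (d : ℕ) (R : LambdaRing.PosLambdaRing.{u + 1}) : Prop :=
  ∃ (X : Scheme.{u}) (_ : IsNoetherian X) (_ : ConnectedSpace X) (L : X.Modules)
    (φ : SGA6.Kvb X →+ R.carrier),
    CohB1.IsAmple L ∧ topologicalKrullDim X ≤ (d : WithBot ℕ∞) ∧ IsModel X R.carrier R.posStr φ

theorem isClass_Cl (hin : PnInput.{u}) : IsClass Cl.{u} where
  dvan := by
    rintro d R ⟨X, _, _, L, φ, hL, hd, hK⟩
    exact Groth.Agent.Krr.H443.GeoModel.dvan_model hL d hd hK
  tower := by
    rintro d R ⟨X, hX1, hX2, L, φ, hL, hd, hK⟩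
    have h1 : IsNoetherian (PY d X) := Groth.Agent.Krr.H452.QProjPn.isNoetherian_PY d ⟨L, hL⟩
    obtain ⟨L', hL'⟩ := Groth.Agent.Krr.H452.QProjPn.exists_isAmple_PY d ⟨L, hL⟩
    have hdim := Groth.Agent.Krr.H443.PnDim.topologicalKrullDim_PY_le d d hd
    let R' : LambdaRing.PosLambdaRing.{u + 1} :=
      { carrier := Groth.Agent.Sga67.KvbRing.KR (PY d X)
        posStr := Groth.Agent.Krr.H495.Model.pos (PY d X) }
    let φ' : SGA6.Kvb (PY d X) →+ R'.carrier :=
      (Groth.Agent.Sga67.KvbRing.toKR (PY d X)).toAddMonoidHom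
    have hK' : IsModel (PY d X) R'.carrier R'.posStr φ' := Groth.Agent.Krr.H495.Model.isModel (PY d X)
    obtain ⟨q, hq⟩ := Groth.Agent.Krr.H482.PullLambda.exists_isPull (pr d X) hK.bijective φ'
    obtain ⟨l, hl, hnil, hinj⟩ := hin X hX1 hX2 L hL d R.carrier _ _ R.posStr φ hK R'.carrier _ _
      R'.posStr φ' hK' q hq
    refine ⟨R', Groth.Agent.Krr.H482.PullLambda.pullRingHom hK' hK hq, l,
      ⟨PY d X, h1, inferInstance, L', φ', hL', hdim, hK'⟩, ?_⟩
    exact
      { lam_map := fun i x => Groth.Agent.Krr.H482.PullFinal.pull_lam hK' hK hq i x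
        aug_map := fun x => Groth.Agent.Krr.H482.PullLambda.pull_aug hK' hK hq x
        line := hl
        lam_mul := fun i x => by
          rw [Groth.Agent.Krr.H483.LamTwist.lam_mul_line hK' hl]
          congr 1
          exact (Groth.Agent.Krr.H482.PullFinal.pull_lam hK' hK hq i x).symm
        nil := hnil
        inj := hinj }

/-- `F^{d+1} K(X) = 0`. -/
theorem filtration_eq_bot_of (hin : PnInput.{u}) (X : Scheme.{u}) [IsNoetherian X] [ConnectedSpace ↥X]
    (L : X.Modules) (hL : CohB1.IsAmple L) (d : ℕ) (hd : topologicalKrullDim ↥X ≤ (d : WithBot ℕ∞))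
    (K : Type v) [CommRing K] [LambdaRing.LambdaOps K] (P : LambdaRing.PosStructure K)
    (φ : SGA6.Kvb X →+ K) (hK : KRR.IsModel X K P φ) :
    LambdaRing.gammaFiltration P (d + 1) = ⊥ := by
  let R : LambdaRing.PosLambdaRing.{u + 1} :=
    { carrier := Groth.Agent.Sga67.KvbRing.KR X
      posStr := Groth.Agent.Krr.H495.Model.pos X }
  have hR : IsModel X R.carrier R.posStr (Groth.Agent.Sga67.KvbRing.toKR X).toAddMonoidHom :=
    Groth.Agent.Krr.H495.Model.isModel X
  have h := filtration_eq_bot (isClass_Cl hin) (d := d) (R := R)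
    ⟨X, inferInstance, inferInstance, L, _, hL, hd, hR⟩
  exact ((Groth.Agent.Krr.H442.ModelIso.posIso hR hK).gammaFiltration_eq_bot_iff (d + 1)).1 h

end Groth.Agent.Krr.H443.DimCond
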