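import Groth.Agent.Books.Lambda2

/-!
# Vanishing of products of gamma-classes: the algebra

Abstract form of the following argument.  `K(X)` for `dim X ≤ d`: (D) `λ^i(x + d) = 0` for `i > d` and `ε(x) = 0`.
Then, with `Y = P^d_X`, `ℓ = [O(1)]`, `(1-ℓ)^{d+1} = 0`, `z ↦ (1-ℓ)^d z` injective, every product of gamma-classes of
total degree `> d` vanishes in `K(X)`.
-/

set_option autoImplicit false
set_option linter.unusedSectionVars false

universe w v

open PowerSeries Finset LambdaRing

namespace Groth.Agent.Krr.H443.GamAlg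

open Groth.Agent.Books.Lambda1 Groth.Agent.Books.Lambda2

section Rapid

/-- `P` holds for all lists of length `w` whose entries are chosen one after the other, each large enough. -/
def Rapid : (w : ℕ) → (List ℕ → Prop) → Prop
  | 0, P => P []
  | w + 1, P => ∃ N : ℕ, ∀ n, N ≤ n → Rapid w (fun l => P (n :: l))

lemma Rapid.mono {w : ℕ} : ∀ {P Q : List ℕ → Prop}, (∀ l, l.length = w → P l → Q l) →
    Rapid w P → Rapid w Q := by
  induction w with
  | zero => intro P Q h hP; exact h [] rfl hP
  | succ w ih =>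
    intro P Q h hP
    obtain ⟨N, hN⟩ := hP
    exact ⟨N, fun n hn => ih (fun l hl hl' => h (n :: l) (by simp [hl]) hl') (hN n hn)⟩

lemma Rapid.exists {w : ℕ} : ∀ {P : List ℕ → Prop}, Rapid w P → ∃ l, l.length = w ∧ P l := by
  induction w with
  | zero => intro P h; exact ⟨[], rfl, h⟩
  | succ w ih =>
    intro P h
    obtain ⟨N, hN⟩ := h
    obtain ⟨l, hl, hl'⟩ := ih (hN N le_rfl)
    exact ⟨N :: l, by simp [hl], hl'⟩

end Rapid

variable {K : Type v} [CommRing K] [LambdaOps K]

lemma lam_one_add_line {u : K} (hu : ∀ i, 2 ≤ i → LambdaOps.lam i u = 0) (i : ℕ) (y : K) :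
    LambdaOps.lam (i + 1) (u + y) = LambdaOps.lam (i + 1) y + u * LambdaOps.lam i y := by
  rw [LambdaOps.lam_add]
  rw [Finset.sum_range_succ', Finset.sum_range_succ']
  rw [Finset.sum_eq_zero (fun j hj => by rw [hu _ (by omega), zero_mul])]
  simp only [zero_add, LambdaOps.lam_zero, LambdaOps.lam_one, one_mul, Nat.add_sub_cancel,
    Nat.sub_zero]
  ring

/-- If `a + u^n b = 0` for all large `n`, with `u` a unit, then for all `n`. -/
lemma add_pow_mul_eq_zero {u a b : K} (hu : IsUnit u) {N : ℕ} (h : ∀ n, N ≤ n → a + u ^ n * b = 0)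
    (n : ℕ) : a + u ^ n * b = 0 := by
  have h1 : u ^ N * ((u - 1) * b) = 0 := by
    have e1 := h (N + 1) (by omega)
    have e2 := h N le_rfl
    linear_combination e1 - e2
  have h2 : (u - 1) * b = 0 := (hu.pow N).mul_right_eq_zero.1 h1
  have h3 : ∀ m : ℕ, u ^ m * b = b := by
    intro m
    induction m with
    | zero => simp
    | succ m ih => linear_combination u * ih + h2
  have e := h N le_rfl
  rw [h3] at e ⊢
  exact e

/-- The multi-affine polynomial argument. -/
lemma lam_eq_zero_of_rapid {u : K} (hu : IsUnit u) (hline : ∀ n i, 2 ≤ i → LambdaOps.lam i (u ^ n) = 0)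
    (d : ℕ) : ∀ (w : ℕ) (y : K),
      Rapid w (fun l => ∀ i, d < i → LambdaOps.lam i ((l.map fun n => u ^ n).sum + y) = 0) →
      ∀ l : List ℕ, l.length = w → ∀ i, d < i → LambdaOps.lam i ((l.map fun n => u ^ n).sum + y) = 0 := by
  intro w
  induction w with
  | zero =>
    intro y h l hl
    rw [List.length_eq_zero_iff] at hl
    subst hl
    exact h
  | succ w ih =>
    intro y h l hl
    obtain ⟨N, hN⟩ := h
    match l, hl with
    | n :: l, hl =>
      intro i hi
      have hl' : l.length = w := by simpa using hl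
      have key : ∀ m, N ≤ m → ∀ i, d < i →
          LambdaOps.lam i (u ^ m + ((l.map fun n => u ^ n).sum + y)) = 0 := by
        intro m hm i hi
        have h1 := ih (u ^ m + y) ((hN m hm).mono (fun l' _ h' i hi => by
          have := h' i hi
          rw [List.map_cons, List.sum_cons] at this
          rw [← this]
          congr 1
          ring)) l hl' i hi
        rw [← h1]
        congr 1
        ring
      obtain ⟨k, rfl⟩ : ∃ k, i = k + 1 := ⟨i - 1, by omega⟩
      have h2 : ∀ m, N ≤ m → LambdaOps.lam (k + 1) ((l.map fun n => u ^ n).sum + y) +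
          u ^ m * LambdaOps.lam k ((l.map fun n => u ^ n).sum + y) = 0 := by
        intro m hm
        rw [← lam_one_add_line (hline m)]
        exact key m hm _ hi
      have h3 := add_pow_mul_eq_zero hu h2 n
      rw [← lam_one_add_line (hline n)] at h3
      rw [List.map_cons, List.sum_cons, add_assoc]
      exact h3

section Geo

variable (P : PosStructure K)

/-- The conclusion of step 1. -/
def Dvan (P : PosStructure K) (d : ℕ) : Prop :=
  ∀ x : K, P.aug x = 0 → ∀ i, d < i → LambdaOps.lam i (x + d) = 0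

/-- The geometric input. -/
def Geo (P : PosStructure K) (d : ℕ) (u : K) : Prop :=
  ∀ e ∈ P.pos, ∀ t : ℕ, P.aug e = t →
    Rapid (t + d) (fun l => ∃ k : K, (l.map fun n => u ^ n).sum = e + k ∧
      ((d = 0 ∧ k = 0) ∨ (k ∈ P.pos ∧ P.aug k = d)))

lemma isUnit_of_isLine {u : K} (hu : P.IsLine u) : IsUnit u := by
  have h := P.isUnit_lam u hu.1
  rw [hu.2] at h
  simpa [LambdaOps.lam_one] using h

lemma lam_line {u : K} (hu : P.IsLine u) (i : ℕ) (hi : 2 ≤ i) : LambdaOps.lam i u = 0 :=
  P.lam_eq_zero u hu.1 i (by rw [hu.2]; exact_mod_cast hi)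

lemma lam_zero_right {i : ℕ} (hi : 0 < i) : LambdaOps.lam i (0 : K) = 0 := by
  rw [← coeff_lamSeries, lamSeries_zero, PowerSeries.coeff_one, if_neg (by omega)]

theorem dvan_of_geo {d : ℕ} {u : K} (hu : P.IsLine u) (hG : Geo P d u) : Dvan P d := by
  intro x hx i hi
  obtain ⟨f, e', hf, he', rfl⟩ := P.exists_sub x
  have hf0 := P.aug_pos f hf
  obtain ⟨q, hq⟩ : ∃ q : ℕ, P.aug f = q := ⟨(P.aug f).toNat, by omega⟩
  obtain ⟨l, hl, k, hk, hk'⟩ := (hG f hf q hq).exists
  have he : e' + k ∈ P.pos := by
    rcases hk' with ⟨-, h⟩ | ⟨h, -⟩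
    · rw [h, add_zero]; exact he'
    · exact P.add_mem _ _ he' h
  have hak : P.aug k = d := by
    rcases hk' with ⟨h0, h⟩ | ⟨-, h⟩
    · rw [h, h0]; simp
    · exact h
  have hae : P.aug (e' + k) = (q + d : ℕ) := by
    rw [map_add, hak]
    rw [map_sub, hq] at hx
    push_cast
    linarith
  have h1 := lam_eq_zero_of_rapid (isUnit_of_isLine P hu)
    (fun n i hi => lam_line P (IsLine_pow P hu n) i hi) d (q + d + d) (-(e' + k))
    ((hG _ he (q + d) hae).mono (fun l' _ ⟨k', hk1, hk2⟩ i hi => by
      rw [hk1]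
      have : e' + k + k' + -(e' + k) = k' := by ring
      rw [this]
      rcases hk2 with ⟨h0, h⟩ | ⟨h, h'⟩
      · rw [h]; exact lam_zero_right (by omega)
      · exact P.lam_eq_zero k' h i (by rw [h']; exact_mod_cast hi)))
    (l ++ List.replicate d 0) (by simp [hl]) i hi
  rw [List.map_append, List.sum_append, hk] at h1
  rw [← h1]
  congr 1
  simp
  ring

end Geo

section Gamma

variable (P : PosStructure K)

/-- `z` is effective of rank `r`: the operations `λ^i(z)` vanish for `i > r`. -/
def Eff (z : K) (r : ℕ) : Prop := ∀ i, r < i → LambdaOps.lam i z = 0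

/-- `λ_t(z)` as a polynomial -/
noncomputable def lamP (r : ℕ) (z : K) : Polynomial K :=
  ∑ i ∈ range (r + 1), Polynomial.C (LambdaOps.lam i z) * Polynomial.X ^ i

lemma coe_lamP {z : K} {r : ℕ} (h : Eff z r) : ((lamP r z : Polynomial K) : PowerSeries K) = lamSeries z := by
  ext n
  rw [coeff_lamSeries, Polynomial.coeff_coe, lamP, Polynomial.finsetSum_coeff]
  simp only [Polynomial.coeff_C_mul, Polynomial.coeff_X_pow, mul_ite, mul_one, mul_zero]
  rw [Finset.sum_ite_eq]
  split_ifs with h'
  · rfl
  · exact (h n (by simpa using h')).symm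

lemma Eff.add {y z : K} {r s : ℕ} (hy : Eff y r) (hz : Eff z s) : Eff (y + z) (r + s) := by
  intro i hi
  rw [LambdaOps.lam_add]
  refine Finset.sum_eq_zero fun j hj => ?_
  rcases Nat.lt_or_ge r j with h | h
  · rw [hy j h, zero_mul]
  · rw [hz (i - j) (by omega), mul_zero]

lemma lamP_add {y z : K} {r s : ℕ} (hy : Eff y r) (hz : Eff z s) :
    lamP (r + s) (y + z) = lamP r y * lamP s z := by
  have h : ((lamP (r + s) (y + z) : Polynomial K) : PowerSeries K) =
      ((lamP r y * lamP s z : Polynomial K) : PowerSeries K) := by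
    rw [coe_lamP (hy.add hz), Polynomial.coe_mul, coe_lamP hy, coe_lamP hz, lamSeries_add]
  exact Polynomial.coe_injective _ h

lemma Eff.zero : Eff (0 : K) 0 := fun _ hi => lam_zero_right hi

lemma lamP_zero : lamP 0 (0 : K) = 1 := by
  simp [lamP, LambdaOps.lam_zero]

/-- `λ_{-1}` of an effective element -/
noncomputable def lamM (r : ℕ) (z : K) : K := (lamP r z).eval (-1)

lemma lamM_add {y z : K} {r s : ℕ} (hy : Eff y r) (hz : Eff z s) :
    lamM (r + s) (y + z) = lamM r y * lamM s z := by
  rw [lamM, lamP_add hy hz, Polynomial.eval_mul]; rfl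

lemma lamM_zero : lamM 0 (0 : K) = 1 := by
  rw [lamM, lamP_zero, Polynomial.eval_one]

lemma lamM_eq (r : ℕ) (z : K) : lamM r z = ∑ i ∈ range (r + 1), LambdaOps.lam i z * (-1) ^ i := by
  rw [lamM, lamP, Polynomial.eval_finsetSum]
  simp

lemma lamM_one (P : PosStructure K) {u : K} (_hu : P.IsLine u) : lamM 1 u = 1 - u := by
  rw [lamM_eq]
  simp [Finset.sum_range_succ, LambdaOps.lam_zero, LambdaOps.lam_one]
  ring

lemma Eff.line {u : K} (hu : P.IsLine u) : Eff u 1 := fun i hi => lam_line P hu i hi

lemma Eff.natCast_mul {u : K} (hu : P.IsLine u) (n : ℕ) : Eff ((n : K) * u) n := by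
  induction n with
  | zero => simpa using Eff.zero
  | succ n ih =>
    have : ((n + 1 : ℕ) : K) * u = (n : K) * u + u := by push_cast; ring
    rw [this]
    exact ih.add (Eff.line P hu)

lemma lamM_natCast_mul {u : K} (hu : P.IsLine u) (n : ℕ) : lamM n ((n : K) * u) = (1 - u) ^ n := by
  induction n with
  | zero => rw [Nat.cast_zero, zero_mul, lamM_zero, pow_zero]
  | succ n ih =>
    have : ((n + 1 : ℕ) : K) * u = (n : K) * u + u := by push_cast; ring
    rw [this, lamM_add (Eff.natCast_mul P hu n) (Eff.line P hu), ih, lamM_one P hu, pow_succ]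

/-- (D) implies that `λ_{-1}` vanishes in rank `> d`. -/
lemma lamM_eq_zero {d r : ℕ} (hD : Dvan P d) {f : K} (hf : P.aug f = r) (hr : d < r) :
    Eff f r ∧ lamM r f = 0 := by
  obtain ⟨s, rfl⟩ : ∃ s, r = d + (s + 1) := ⟨r - d - 1, by omega⟩
  have h0 : Eff (f - ((d + (s + 1) : ℕ) : K) + d) d := by
    apply hD
    rw [map_sub, hf, map_natCast, sub_self]
  have h1 : Eff (((s + 1 : ℕ) : K) * 1) (s + 1) := Eff.natCast_mul P (isLine_one P) _
  have h2 : f = (f - ((d + (s + 1) : ℕ) : K) + d) + ((s + 1 : ℕ) : K) * 1 := by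
    push_cast; ring
  constructor
  · rw [h2]; exact h0.add h1
  · rw [h2, lamM_add h0 h1, lamM_natCast_mul P (isLine_one P), sub_self, zero_pow (by omega), mul_zero]

lemma coeff_one_sub_X_pow (n k : ℕ) :
    coeff k ((1 - X : PowerSeries K) ^ n) = (-1) ^ k * (n.choose k : K) := by
  have h1 : (1 - X : PowerSeries K) ^ n =
      (((1 + Polynomial.X : Polynomial K) ^ n).comp (-Polynomial.X) : Polynomial K) := by
    simp [Polynomial.add_comp, Polynomial.pow_comp, sub_eq_add_neg]
  rw [h1, Polynomial.coeff_coe]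
  have h2 : ((1 + Polynomial.X : Polynomial K) ^ n).comp (-Polynomial.X) =
      ((1 + Polynomial.X : Polynomial K) ^ n).comp (Polynomial.C (-1) * Polynomial.X) := by
    congr 1; simp
  rw [h2, Polynomial.comp_C_mul_X_coeff, Polynomial.coeff_one_add_X_pow]
  ring

include P in
/-- gamma-operations of `x` in terms of `λ`-operations of `x + d`. -/
lemma gamma_eq {d : ℕ} {x : K} (hx : Eff (x + d) d) (a : ℕ) :
    gamma a x = ∑ j ∈ range (a + 1), if j ≤ d then
      LambdaOps.lam j (x + d) * ((-1) ^ (a - j) * ((d - j).choose (a - j) : K)) else 0 := by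
  have h0 : gammaSeries x = (1 - X) ^ d * gammaSeries (x + d) := by
    have := gammaSeries_sub_nat P (x + d) d
    rwa [add_sub_cancel_right] at this
  have h2 : gammaSeries (x + d) = ∑ i ∈ range (d + 1), PowerSeries.C (LambdaOps.lam i (x + d)) * T K ^ i := by
    rw [gammaSeries_eq_subst, ← coe_lamP hx, ← coe_substAlgHom hasSubst_T, substAlgHom_coe hasSubst_T,
      lamP, map_sum]
    apply Finset.sum_congr rfl
    intro i _
    rw [map_mul, map_pow, Polynomial.aeval_X, Polynomial.aeval_C]
    rfl
  have h3 : gammaSeries x = ∑ i ∈ range (d + 1), PowerSeries.C (LambdaOps.lam i (x + d)) *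
      (X ^ i * (1 - X) ^ (d - i)) := by
    rw [h0, h2, Finset.mul_sum]
    apply Finset.sum_congr rfl
    intro i hi
    have hi' : i ≤ d := by
      have := Finset.mem_range.mp hi
      omega
    have h3 : (1 - X : PowerSeries K) ^ d = (1 - X) ^ i * (1 - X) ^ (d - i) := by
      rw [← pow_add]; congr 1; omega
    have h4 : X ^ i = T K ^ i * (1 - X) ^ i := by
      rw [← mul_pow, T_mul_one_sub]
    rw [h3, h4]
    ring
  rw [← coeff_gammaSeries, h3, map_sum]
  have h5 : ∀ i, coeff a (PowerSeries.C (LambdaOps.lam i (x + d)) * (X ^ i * (1 - X) ^ (d - i))) =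
      if i ≤ a then LambdaOps.lam i (x + d) * ((-1) ^ (a - i) * ((d - i).choose (a - i) : K)) else 0 := by
    intro i
    rw [coeff_C_mul, coeff_X_pow_mul']
    split_ifs with h
    · rw [coeff_one_sub_X_pow]
    · rw [mul_zero]
  rw [Finset.sum_congr rfl fun i _ => h5 i]
  rw [← Finset.sum_filter, ← Finset.sum_filter]
  refine Finset.sum_congr ?_ fun _ _ => rfl
  ext i
  simp only [Finset.mem_filter, Finset.mem_range]
  omega

include P in
lemma gamma_eq_zero {d : ℕ} {x : K} (hx : Eff (x + d) d) {a : ℕ} (ha : d < a) : gamma a x = 0 := by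
  rw [gamma_eq P hx]
  refine Finset.sum_eq_zero fun j hj => ?_
  split_ifs with h
  · rw [Nat.choose_eq_zero_of_lt (by omega)]
    simp
  · rfl

/-- The binomial identity behind the twisting formula. -/
lemma sum_hom {R : Type*} [CommRing R] (d : ℕ) (c : ℕ → R) (x y : R) :
    ∑ a ∈ range (d + 1), (∑ j ∈ range (a + 1), if j ≤ d then
      c j * ((-1) ^ (a - j) * ((d - j).choose (a - j) : R)) else 0) * x ^ a * y ^ (d - a) =
    ∑ j ∈ range (d + 1), c j * x ^ j * (y - x) ^ (d - j) := by
  have h1 : ∀ j ∈ range (d + 1), c j * x ^ j * (y - x) ^ (d - j) =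
      ∑ a ∈ range (d + 1), if j ≤ a then
        c j * ((-1) ^ (a - j) * ((d - j).choose (a - j) : R)) * x ^ a * y ^ (d - a) else 0 := by
    intro j hj
    have hj' : j ≤ d := by
      have := Finset.mem_range.mp hj
      omega
    have h2 : (y - x) ^ (d - j) = ∑ b ∈ range (d - j + 1), (-x) ^ b * y ^ (d - j - b) *
        ((d - j).choose b : R) := by
      rw [sub_eq_add_neg, add_comm, add_pow]
    rw [h2, Finset.mul_sum, ← Finset.sum_filter]
    refine Finset.sum_bij (fun b _ => b + j) ?_ ?_ ?_ ?_
    · intro b hb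
      have := Finset.mem_range.mp hb
      simp only [Finset.mem_filter, Finset.mem_range]
      omega
    · intro b _ b' _ h
      simpa using h
    · intro a ha
      simp only [Finset.mem_filter, Finset.mem_range] at ha
      exact ⟨a - j, by simp only [Finset.mem_range]; omega, by omega⟩
    · intro b hb
      have hb' := Finset.mem_range.mp hb
      have e1 : d - (b + j) = d - j - b := by omega
      have e2 : b + j - j = b := by omega
      rw [e1, e2, pow_add, neg_pow]
      ring
  rw [Finset.sum_congr rfl h1, Finset.sum_comm]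
  refine Finset.sum_congr rfl fun a ha => ?_
  have ha' : a ≤ d := by
    have := Finset.mem_range.mp ha
    omega
  rw [Finset.sum_mul, Finset.sum_mul]
  have h3 : ∀ j ∈ range (a + 1), (if j ≤ d then
      c j * ((-1) ^ (a - j) * ((d - j).choose (a - j) : R)) else 0) * x ^ a * y ^ (d - a) =
      if j ≤ a then c j * ((-1) ^ (a - j) * ((d - j).choose (a - j) : R)) * x ^ a * y ^ (d - a) else 0 := by
    intro j hj
    have hj' : j ≤ a := by
      have := Finset.mem_range.mp hj
      omega
    rw [if_pos hj', if_pos (by omega)]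
  rw [Finset.sum_congr rfl h3]
  refine Finset.sum_subset (fun j hj => ?_) fun j _ hj => ?_
  · have := Finset.mem_range.mp hj
    simp only [Finset.mem_range]
    omega
  · rw [if_neg]
    simpa using hj

end Gamma

end Groth.Agent.Krr.H443.GamAlg
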