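import Groth.Agent.Krr.H443.GamAlg

/-!
# Vanishing of products of gamma-classes: the induction
-/

set_option autoImplicit false
set_option linter.unusedSectionVars false

universe w v

open PowerSeries Finset LambdaRing

namespace Groth.Agent.Krr.H443.GamInd

open Groth.Agent.Books.Lambda1 Groth.Agent.Books.Lambda2 Groth.Agent.Krr.H443.GamAlg

/-- The data of `K(X) → K(P^m_X)`, `ℓ = [O(1)]`. -/
structure Tower {K : Type v} [CommRing K] [LambdaOps K] (P : PosStructure K)
    {K' : Type w} [CommRing K'] [LambdaOps K'] (P' : PosStructure K') (m : ℕ) (p : K →+* K') (l : K') :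
    Prop where
  lam_map : ∀ i x, p (LambdaOps.lam i x) = LambdaOps.lam i (p x)
  aug_map : ∀ x, P'.aug (p x) = P.aug x
  line : P'.IsLine l
  lam_mul : ∀ i x, LambdaOps.lam i (p x * l) = p (LambdaOps.lam i x) * l ^ i
  nil : (1 - l) ^ (m + 1) = 0
  inj : ∀ z, p z * (1 - l) ^ m = 0 → z = 0

section

variable {K : Type v} [CommRing K] [LambdaOps K] {P : PosStructure K}
  {K' : Type w} [CommRing K'] [LambdaOps K'] {P' : PosStructure K'} {m : ℕ} {p : K →+* K'} {l : K'}

lemma Tower.gamma_map (h : Tower P P' m p l) (k : ℕ) (x : K) : p (gamma k x) = gamma k (p x) := by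
  rw [gamma, gamma]
  split_ifs with hk
  · exact map_one p
  · rw [map_sum]
    refine Finset.sum_congr rfl fun j _ => ?_
    rw [map_mul, map_natCast]
    split_ifs with hj
    · rw [map_zero]
    · rw [h.lam_map]

lemma Tower.eff_map (h : Tower P P' m p l) {z : K} {r : ℕ} (hz : Eff z r) : Eff (p z) r := fun i hi => by
  rw [← h.lam_map, hz i hi, map_zero]

lemma Tower.lamM_map (h : Tower P P' m p l) (z : K) (r : ℕ) : lamM r (p z) = p (lamM r z) := by
  rw [lamM_eq, lamM_eq, map_sum]
  refine Finset.sum_congr rfl fun i _ => ?_
  rw [map_mul, h.lam_map, map_pow, map_neg, map_one]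

lemma Tower.eff_mul (h : Tower P P' m p l) {z : K} {r : ℕ} (hz : Eff z r) : Eff (p z * l) r := fun i hi => by
  rw [h.lam_mul, hz i hi, map_zero, zero_mul]

/-- `λ_{-1}((x + d) ℓ) = Σ_a γ^a(x) (-ℓ)^a (1-ℓ)^{d-a}` -/
lemma Tower.lamM_mul (h : Tower P P' m p l) {x : K} {d : ℕ} (hx : Eff (x + d) d) :
    lamM d (p (x + d) * l) = ∑ a ∈ range (d + 1), p (gamma a x) * (-l) ^ a * (1 - l) ^ (d - a) := by
  rw [lamM_eq]
  have h1 : ∀ i ∈ range (d + 1), LambdaOps.lam i (p (x + d) * l) * (-1) ^ i =
      p (LambdaOps.lam i (x + d)) * (-l) ^ i * ((1 - l) - (-l)) ^ (d - i) := by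
    intro i _
    rw [h.lam_mul, neg_pow l]
    have : (1 - l) - (-l) = 1 := by ring
    rw [this, one_pow]
    ring
  rw [Finset.sum_congr rfl h1, ← sum_hom]
  refine Finset.sum_congr rfl fun a _ => ?_
  congr 2
  rw [gamma_eq P hx, map_sum]
  refine Finset.sum_congr rfl fun j _ => ?_
  split_ifs
  · simp
  · rw [map_zero]

end

/-- total degree of a list of gamma-monomials -/
def deg {K : Type v} (l : List (ℕ × K)) : ℕ := (l.map Prod.fst).sum

/-- the product of the gamma-classes -/
def gprod {K : Type v} [CommRing K] [LambdaOps K] (l : List (ℕ × K)) : K :=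
  (l.map fun p => gamma p.1 p.2).prod

/-- A class of λ-rings with positive structure, with a notion of `dimension ≤ d`. -/
structure IsClass (C : ℕ → PosLambdaRing.{w} → Prop) : Prop where
  dvan : ∀ d R, C d R → Dvan R.posStr d
  tower : ∀ d R, C d R → ∃ (R' : PosLambdaRing.{w}) (p : R.carrier →+* R'.carrier) (l : R'.carrier),
    C (d + d) R' ∧ Tower R.posStr R'.posStr d p l

variable {C : ℕ → PosLambdaRing.{w} → Prop}

theorem vanish (hC : IsClass C) : ∀ (n : ℕ) (d : ℕ) (R : PosLambdaRing.{w}), C d R →
    ∀ (L : List (ℕ × R.carrier)), L.length = n → (∀ q ∈ L, R.posStr.aug q.2 = 0) →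
    ∀ (f : R.carrier) (r : ℕ), R.posStr.aug f = r → Eff f r → d < r + deg L →
      lamM r f * gprod L = 0 := by
  intro n
  induction n with
  | zero =>
    intro d R hR L hL _ f r hf _ hdr
    rw [List.length_eq_zero_iff] at hL
    subst hL
    have h1 : d < r := by simpa [deg] using hdr
    rw [(lamM_eq_zero R.posStr (hC.dvan d R hR) hf h1).2, zero_mul]
  | succ n ih =>
    intro d R hR L hL haug f r hf hfr hdr
    match L, hL with
    | (i, x) :: L, hL =>
      have hL' : L.length = n := by simpa using hL
      have hx : R.posStr.aug x = 0 := haug (i, x) (by simp)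
      have haug' : ∀ q ∈ L, R.posStr.aug q.2 = 0 := fun q hq => haug q (by simp [hq])
      have hxe : Eff (x + (d : R.carrier)) d := hC.dvan d R hR x hx
      obtain ⟨R', p, l, hR', hT⟩ := hC.tower d R hR
      -- descending induction on the degree
      have key : ∀ (s i : ℕ), d < i + s → d < r + (i + deg L) →
          gamma i x * (lamM r f * gprod L) = 0 := by
        intro s
        induction s with
        | zero =>
          intro i hi _
          rw [gamma_eq_zero R.posStr hxe (by simpa using hi), zero_mul]
        | succ s ihs =>
          intro i hi hdr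
          rcases Nat.lt_or_ge d i with hdi | hdi
          · rw [gamma_eq_zero R.posStr hxe hdi, zero_mul]
          set w := lamM r f * gprod L with hw
          -- the bundle `p^* f + (p^* x + d) ℓ + i ℓ`
          let f' : R'.carrier := p f + (p (x + d) * l + (i : R'.carrier) * l)
          have e1 : Eff (p f) r := hT.eff_map hfr
          have e2 : Eff (p (x + d) * l) d := hT.eff_mul hxe
          have e3 : Eff ((i : R'.carrier) * l) i := Eff.natCast_mul R'.posStr hT.line i
          have hline : R'.posStr.aug l = 1 := hT.line.2
          have haugf : R'.posStr.aug f' = ((r + (d + i) : ℕ) : ℤ) := by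
            simp only [f']
            rw [map_add, map_add, map_mul, map_mul, hT.aug_map, hT.aug_map, hf, map_add, hx, hline,
              map_natCast, map_natCast]
            push_cast
            ring
          have h1 := ih (d + d) R' hR' (L.map fun q => (q.1, p q.2)) (by simpa using hL')
            (by
              intro q hq
              obtain ⟨q', hq', rfl⟩ := List.mem_map.1 hq
              rw [hT.aug_map]
              exact haug' q' hq') f' (r + (d + i)) haugf (e1.add (e2.add e3))
            (by
              have : deg (L.map fun q => (q.1, p q.2)) = deg L := by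
                simp [deg, Function.comp_def]
              rw [this]
              omega)
          have h2 : gprod (L.map fun q => (q.1, p q.2)) = p (gprod L) := by
            simp only [gprod, List.map_map]
            rw [map_list_prod, List.map_map]
            congr 1
            refine List.map_congr_left fun q _ => ?_
            simp only [Function.comp]
            rw [hT.gamma_map]
          rw [h2] at h1
          simp only [f'] at h1
          rw [lamM_add e1 (e2.add e3), lamM_add e2 e3, hT.lamM_map, hT.lamM_mul hxe,
            lamM_natCast_mul R'.posStr hT.line] at h1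
          have h3 : (∑ a ∈ range (d + 1), p (gamma a x) * (-l) ^ a * (1 - l) ^ (d - a)) * (1 - l) ^ i * p w = 0 := by
            rw [hw, map_mul]
            linear_combination h1
          have h4 : ∀ a ∈ range (d + 1), a ≠ i →
              p (gamma a x) * (-l) ^ a * (1 - l) ^ (d - a) * ((1 - l) ^ i * p w) = 0 := by
            intro a ha hai
            have ha' : a ≤ d := by
              have := Finset.mem_range.mp ha
              omega
            rcases lt_or_gt_of_ne hai with h | h
            · have : (1 - l) ^ (d - a) * (1 - l) ^ i = 0 := by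
                rw [← pow_add, show d - a + i = (d + 1) + (i - a - 1) by omega, pow_add, hT.nil, zero_mul]
              linear_combination p (gamma a x) * (-l) ^ a * p w * this
            · have h5 : gamma a x * w = 0 := ihs a (by omega) (by omega)
              have h6 : p (gamma a x) * p w = 0 := by rw [← map_mul, h5, map_zero]
              linear_combination (-l) ^ a * (1 - l) ^ (d - a) * (1 - l) ^ i * h6
          rw [mul_assoc, Finset.sum_mul, Finset.sum_eq_single_of_mem i (by simpa using by omega)
            (fun a ha hai => h4 a ha hai)] at h3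
          have h5 : (-l) ^ i * (p (gamma i x * w) * (1 - l) ^ d) = 0 := by
            have h6 : (1 - l) ^ (d - i) * (1 - l) ^ i = (1 - l) ^ d := by
              rw [← pow_add]; congr 1; omega
            rw [map_mul]
            linear_combination h3 - (-l) ^ i * p (gamma i x) * p w * h6
          have hu : IsUnit ((-l) ^ i) := ((isUnit_of_isLine R'.posStr hT.line).neg).pow i
          exact hT.inj _ (hu.mul_right_eq_zero.1 h5)
      have h6 := key (d + 1) i (by omega) (by
        have : deg ((i, x) :: L) = i + deg L := by simp [deg]
        rw [this] at hdr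
        exact hdr)
      have h7 : gprod ((i, x) :: L) = gamma i x * gprod L := by simp [gprod]
      rw [h7]
      linear_combination h6

/-- The γ-filtration vanishes in degree `d + 1`. -/
theorem filtration_eq_bot (hC : IsClass C) {d : ℕ} {R : PosLambdaRing.{w}} (hR : C d R) :
    gammaFiltration R.posStr (d + 1) = ⊥ := by
  rw [filtration_of_ne_zero _ (Nat.succ_ne_zero d), AddSubgroup.closure_eq_bot_iff]
  rintro y ⟨L, hL, hs, rfl⟩
  have h := vanish hC L.length d R hR L rfl hL 0 0 (by simp) Eff.zero (by
    rw [zero_add]
    exact hs)
  rw [lamM_zero, one_mul] at h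
  exact h

end Groth.Agent.Krr.H443.GamInd
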