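import Groth.Agent.FormalB.SpanStalk
import Groth.Agent.Ega1.FTStalkFin
import Groth.Agent.Sga2.StalkGen68
import Mathlib.RingTheory.Nakayama
import Mathlib.LinearAlgebra.Span.Basic

/-!
# General position: number of generators of `E_x / f(G_x)`

`GenAt f x r`: `E_x / f(G_x)` is generated by `r` elements; open in `x`.  `NZ f g x`: `g(K_x)` is not contained in
`m_x E_x + f(G_x)`.
-/

set_option autoImplicit false
universe u

open CategoryTheory CategoryTheory.Limits AlgebraicGeometry Opposite TopologicalSpace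

namespace Groth.Agent.Krr.H443.GenPos

open Groth.Agent.Fdesc.Skyscraper Groth.Agent.Sga2.StalkGen68 Groth.Agent.Fdesc.LocGen

section Algebra

variable {R : Type*} [CommRing R] [IsLocalRing R] {M : Type*} [AddCommGroup M] [Module R M]

/-- Replacing a generator by an element outside `m M + N`. -/
theorem exists_exchange (N : Submodule R M) {r : ℕ} (m : Fin (r + 1) → M)
    (hm : Submodule.span R (Set.range m) ⊔ N = ⊤) (t : M)
    (ht : t ∉ IsLocalRing.maximalIdeal R • (⊤ : Submodule R M) ⊔ N) :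
    ∃ m' : Fin r → M, Submodule.span R (Set.range m') ⊔ (N ⊔ Submodule.span R {t}) = ⊤ := by
  have h1 : t ∈ Submodule.span R (Set.range m) ⊔ N := by rw [hm]; trivial
  obtain ⟨y, hy, n, hn, hyn⟩ := Submodule.mem_sup.1 h1
  obtain ⟨a, rfl⟩ := (Submodule.mem_span_range_iff_exists_fun R).1 hy
  have h2 : ∃ i, IsUnit (a i) := by
    by_contra hcon
    push Not at hcon
    apply ht
    rw [← hyn]
    refine Submodule.add_mem_sup (Submodule.sum_mem _ fun i _ => ?_) hn
    exact Submodule.smul_mem_smul ((IsLocalRing.mem_maximalIdeal _).2 (hcon i)) trivial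
  obtain ⟨i, hi⟩ := h2
  refine ⟨fun j => m (i.succAbove j), ?_⟩
  set P := Submodule.span R (Set.range fun j => m (i.succAbove j)) ⊔ (N ⊔ Submodule.span R {t}) with hP
  have hj : ∀ j, m (i.succAbove j) ∈ P := fun j =>
    Submodule.mem_sup_left (Submodule.subset_span ⟨j, rfl⟩)
  have hN : N ≤ P := le_sup_left.trans le_sup_right
  have htP : t ∈ P := Submodule.mem_sup_right (Submodule.mem_sup_right (Submodule.mem_span_singleton_self t))
  have hmi : m i ∈ P := by
    have h3 : a i • m i = t - n - ∑ j, a (i.succAbove j) • m (i.succAbove j) := by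
      rw [← hyn, Fin.sum_univ_succAbove _ i]
      abel
    have h4 : a i • m i ∈ P := by
      rw [h3]
      exact P.sub_mem (P.sub_mem htP (hN hn)) (P.sum_mem fun j _ => P.smul_mem _ (hj j))
    obtain ⟨v, hv⟩ := hi
    have h5 : m i = (↑v⁻¹ : R) • (a i • m i) := by
      rw [← hv, smul_smul, Units.inv_mul, one_smul]
    rw [h5]
    exact P.smul_mem _ h4
  rw [eq_top_iff, ← hm]
  refine sup_le (Submodule.span_le.2 ?_) hN
  rintro _ ⟨j, rfl⟩
  rcases Fin.eq_self_or_eq_succAbove i j with h | ⟨k, h⟩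
  · rw [h]; exact hmi
  · rw [h]; exact hj k

end Algebra

variable {X : Scheme.{u}} {G G' K E E' : X.Modules}

/-- `E_x / f(G_x)` is generated by `r` elements. -/
def GenAt (f : G ⟶ E) (x : X) (r : ℕ) : Prop :=
  ∃ m : Fin r → E.presheaf.stalk x,
    Submodule.span (X.presheaf.stalk x) (Set.range m) ⊔ LinearMap.range (stalkMap f x) = ⊤

/-- `m_x E_x + f(G_x)` -/
noncomputable def BB (f : G ⟶ E) (x : X) : Submodule (X.presheaf.stalk x) (E.presheaf.stalk x) :=
  IsLocalRing.maximalIdeal (X.presheaf.stalk x) • (⊤ : Submodule (X.presheaf.stalk x) (E.presheaf.stalk x)) ⊔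
    LinearMap.range (stalkMap f x)

/-- `g` does not vanish at `x` modulo `f`. -/
def NZ (f : G ⟶ E) (g : K ⟶ E) (x : X) : Prop := ¬ LinearMap.range (stalkMap g x) ≤ BB f x

theorem range_stalkMap_comp_le (a : G ⟶ G') (f : G' ⟶ E) (x : X) :
    LinearMap.range (stalkMap (a ≫ f) x) ≤ LinearMap.range (stalkMap f x) := by
  rw [stalkMap_comp]
  exact LinearMap.range_comp_le_range _ _

theorem range_biprod_left (f : G ⟶ E) (g : K ⟶ E) (x : X) :
    LinearMap.range (stalkMap f x) ≤ LinearMap.range (stalkMap (biprod.desc f g) x) := by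
  have h := range_stalkMap_comp_le (biprod.inl : G ⟶ G ⊞ K) (biprod.desc f g) x
  rwa [biprod.inl_desc] at h

theorem range_biprod_right (f : G ⟶ E) (g : K ⟶ E) (x : X) :
    LinearMap.range (stalkMap g x) ≤ LinearMap.range (stalkMap (biprod.desc f g) x) := by
  have h := range_stalkMap_comp_le (biprod.inr : K ⟶ G ⊞ K) (biprod.desc f g) x
  rwa [biprod.inr_desc] at h

theorem GenAt.biprod {f : G ⟶ E} {x : X} {r : ℕ} (h : GenAt f x r) (g : K ⟶ E) :
    GenAt (biprod.desc f g) x r := by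
  obtain ⟨m, hm⟩ := h
  refine ⟨m, ?_⟩
  rw [eq_top_iff, ← hm]
  exact sup_le_sup_left (range_biprod_left f g x) _

theorem GenAt.of_nz {f : G ⟶ E} {x : X} {r : ℕ} (h : GenAt f x (r + 1)) {g : K ⟶ E}
    (hg : NZ f g x) : GenAt (biprod.desc f g) x r := by
  obtain ⟨m, hm⟩ := h
  obtain ⟨t, ⟨k, rfl⟩, hkt⟩ := SetLike.not_le_iff_exists.1 hg
  obtain ⟨m', hm'⟩ := exists_exchange _ m hm _ hkt
  refine ⟨m', ?_⟩
  rw [eq_top_iff, ← hm']
  refine sup_le_sup_left (sup_le (range_biprod_left f g x) ?_) _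
  rw [Submodule.span_le, Set.singleton_subset_iff]
  exact range_biprod_right f g x ⟨k, rfl⟩

theorem GenAt.mono {f : G ⟶ E} {x : X} {r s : ℕ} (h : GenAt f x r) (hrs : r ≤ s) : GenAt f x s := by
  obtain ⟨m, hm⟩ := h
  refine ⟨fun i => if hi : i.1 < r then m ⟨i.1, hi⟩ else 0, ?_⟩
  rw [eq_top_iff, ← hm]
  refine sup_le_sup_right (Submodule.span_mono ?_) _
  rintro _ ⟨i, rfl⟩
  exact ⟨⟨i.1, i.2.trans_le hrs⟩, by simp⟩

theorem genAt_zero_iff (f : G ⟶ E) (x : X) : GenAt f x 0 ↔ Function.Surjective (stalkMap f x) := by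
  rw [← LinearMap.range_eq_top]
  constructor
  · rintro ⟨m, hm⟩
    rw [Set.range_eq_empty, Submodule.span_empty, bot_sup_eq] at hm
    exact hm
  · intro h
    exact ⟨fun i => i.elim0, by rw [h, sup_top_eq]⟩

/-- Nakayama: `m_x E_x + f(G_x) ≠ E_x` if `f` is not surjective at `x`. -/
theorem BB_ne_top {f : G ⟶ E} {x : X} (hfin : Module.Finite (X.presheaf.stalk x) (E.presheaf.stalk x))
    (h : ¬ GenAt f x 0) : BB f x ≠ ⊤ := by
  intro hB
  apply h
  rw [genAt_zero_iff, ← LinearMap.range_eq_top, eq_top_iff]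
  refine Submodule.le_of_le_smul_of_le_jacobson_bot (Module.finite_def.1 hfin)
    (IsLocalRing.maximalIdeal_le_jacobson ⊥) ?_
  rw [sup_comm]
  exact hB.ge

section Spread

/-- Elements of `span(μ) + range f` near `x`. -/
theorem exists_nhd (f : G ⟶ E) {U : X.Opens} {r : ℕ} (μ : Fin r → Γ(E, U)) {x : X} (hx : x ∈ U)
    (s : Γ(E, U))
    (hs : E.presheaf.germ U x hx s ∈ Submodule.span (X.presheaf.stalk x)
      (Set.range fun i => E.presheaf.germ U x hx (μ i)) ⊔ LinearMap.range (stalkMap f x)) :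
    ∃ W : X.Opens, x ∈ W ∧ W ≤ U ∧ ∀ (y : X) (_ : y ∈ W) (hyU : y ∈ U),
      E.presheaf.germ U y hyU s ∈ Submodule.span (X.presheaf.stalk y)
        (Set.range fun i => E.presheaf.germ U y hyU (μ i)) ⊔ LinearMap.range (stalkMap f y) := by
  -- the submodule at `y`
  let P : ∀ (y : X) (_ : y ∈ U), Submodule (X.presheaf.stalk y) (E.presheaf.stalk y) := fun y hy =>
    Submodule.span (X.presheaf.stalk y)
        (Set.range fun i => E.presheaf.germ U y hy (μ i)) ⊔ LinearMap.range (stalkMap f y)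
  let Good : E.presheaf.stalk x → Prop := fun e => ∃ (W : X.Opens) (hxW : x ∈ W) (hW : W ≤ U) (σ : Γ(E, W)),
    E.presheaf.germ W x hxW σ = e ∧ ∀ (y : X) (hy : y ∈ W), E.presheaf.germ W y hy σ ∈ P y (hW hy)
  have hadd : ∀ a b, Good a → Good b → Good (a + b) := by
    rintro _ _ ⟨W, hxW, hW, σ, rfl, h⟩ ⟨W', hxW', hW', σ', rfl, h'⟩
    refine ⟨W ⊓ W', ⟨hxW, hxW'⟩, inf_le_left.trans hW, res E inf_le_left σ + res E inf_le_right σ', ?_, ?_⟩
    · rw [map_add, germ_res, germ_res]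
    · intro y hy
      rw [map_add, germ_res, germ_res]
      exact Submodule.add_mem _ (h y hy.1) (h' y hy.2)
  have hzero : Good 0 := ⟨U, hx, le_rfl, 0, map_zero _, fun y hy => by
    rw [map_zero]; exact Submodule.zero_mem _⟩
  have hsmul : ∀ (c : X.presheaf.stalk x) a, Good a → Good (c • a) := by
    rintro c _ ⟨W, hxW, hW, σ, rfl, h⟩
    obtain ⟨V, hxV, c, rfl⟩ := X.presheaf.exists_germ_eq c
    refine ⟨W ⊓ V, ⟨hxW, hxV⟩, inf_le_left.trans hW,
      (ores (inf_le_right : W ⊓ V ≤ V) c • res E (inf_le_left : W ⊓ V ≤ W) σ : Γ(E, W ⊓ V)), ?_, ?_⟩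
    · rw [Groth.Agent.CycB.StalkExact.germ_smul, germ_res, germ_ores]
    · intro y hy
      rw [Groth.Agent.CycB.StalkExact.germ_smul, germ_res]
      exact Submodule.smul_mem _ _ (h y hy.1)
  have hspan : ∀ e ∈ Submodule.span (X.presheaf.stalk x)
      (Set.range fun i => E.presheaf.germ U x hx (μ i)), Good e := by
    intro e he
    refine Submodule.span_induction (p := fun e _ => Good e) ?_ hzero (fun a b _ _ => hadd a b)
      (fun c a _ => hsmul c a) he
    rintro _ ⟨i, rfl⟩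
    exact ⟨U, hx, le_rfl, μ i, rfl, fun y hy =>
      Submodule.mem_sup_left (Submodule.subset_span ⟨i, rfl⟩)⟩
  have hrange : ∀ e ∈ LinearMap.range (stalkMap f x), Good e := by
    rintro _ ⟨g, rfl⟩
    obtain ⟨V, hxV, hV, γ, rfl⟩ := exists_germ_le G hx g
    refine ⟨V, hxV, hV, f.app V γ, ?_, fun y hy => ?_⟩
    · rw [stalkMap_germ]
    · exact Submodule.mem_sup_right ⟨G.presheaf.germ V y hy γ, by rw [stalkMap_germ]⟩
  obtain ⟨a, ha, b, hb, hab⟩ := Submodule.mem_sup.1 hs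
  obtain ⟨W, hxW, hW, σ, hσ, h⟩ := hadd a b (hspan a ha) (hrange b hb)
  rw [hab] at hσ
  obtain ⟨W', hxW', h1, h2, h3⟩ := exists_common_res E hxW hx σ s hσ
  refine ⟨W', hxW', h2, fun y hy hyU => ?_⟩
  have h4 := h y (h1 hy)
  rw [← germ_res E h1 y hy, h3, germ_res] at h4
  exact h4

theorem isOpen_genAt (hE : Coh.IsQCoh E) (hE' : CohB1.IsFT E) (f : G ⟶ E) (r : ℕ) :
    IsOpen {x : X | GenAt f x r} := by
  rw [isOpen_iff_forall_mem_open]
  rintro x ⟨m, hm⟩
  -- represent the generators on an affine open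
  have h1 : ∀ i, ∃ (V : X.Opens) (hxV : x ∈ V) (s : Γ(E, V)), E.presheaf.germ V x hxV s = m i :=
    fun i => E.presheaf.exists_germ_eq (m i)
  choose V hxV s hs using h1
  let V0 : X.Opens := ⟨⋂ i, (V i : Set X), isOpen_iInter_of_finite fun i => (V i).2⟩
  have hxV0 : x ∈ V0 := Set.mem_iInter.2 hxV
  have hV0 : ∀ i, V0 ≤ V i := fun i y hy => Set.mem_iInter.1 hy i
  obtain ⟨U, hU, hxU, hUV⟩ := exists_isAffineOpen_mem_and_subset hxV0
  let μ : Fin r → Γ(E, U) := fun i => res E (hUV.trans (hV0 i)) (s i)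
  have hμ : ∀ i, E.presheaf.germ U x hxU (μ i) = m i := fun i => by
    rw [← hs i]; exact germ_res E _ x hxU (s i)
  have hfin := Groth.Agent.CohqB.FiniteType2.finite_sections_of_isFT E hE' hU
  obtain ⟨n, t, ht⟩ := Module.Finite.exists_fin (R := Γ(X, U)) (M := Γ(E, U))
  have h2 : ∀ j, ∃ W : X.Opens, x ∈ W ∧ W ≤ U ∧ ∀ (y : X) (_ : y ∈ W) (hyU : y ∈ U),
      E.presheaf.germ U y hyU (t j) ∈ Submodule.span (X.presheaf.stalk y)
        (Set.range fun i => E.presheaf.germ U y hyU (μ i)) ⊔ LinearMap.range (stalkMap f y) := by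
    intro j
    refine exists_nhd f μ hxU (t j) ?_
    have h3 : (fun i => E.presheaf.germ U x hxU (μ i)) = m := funext hμ
    rw [h3, hm]
    trivial
  choose W hxW hW h3 using h2
  refine ⟨(U : Set X) ∩ ⋂ j, (W j : Set X), ?_, U.2.inter (isOpen_iInter_of_finite fun j => (W j).2),
    ⟨hxU, Set.mem_iInter.2 hxW⟩⟩
  rintro y ⟨hyU, hyW⟩
  have hyW' : ∀ j, y ∈ W j := fun j => Set.mem_iInter.1 hyW j
  refine ⟨fun i => E.presheaf.germ U y hyU (μ i), ?_⟩
  rw [eq_top_iff, ← Groth.Agent.FormalB.SpanStalk.span_germ_of_span hU hE t ht y hyU, Submodule.span_le]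
  rintro _ ⟨j, rfl⟩
  exact h3 j y (hyW' j) hyU

end Spread

end Groth.Agent.Krr.H443.GenPos
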