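import Groth.Agent.Krr.H443.GenPos
import Groth.Agent.Krr.H443.GamAlg
import Mathlib.Topology.KrullDimension
import Mathlib.Topology.NoetherianSpace
import Mathlib.CategoryTheory.Abelian.Basic

/-!
# General position: the induction on the dimension

Abstract form: `K : ℕ → X.Modules` (think of `K n = L^{-n}`, `L` ample) such that the morphisms `K n ⟶ E` are jointly
epimorphic for large `n` and such that there are enough morphisms `K (n + k) ⟶ K n` (sections of `L^k`).  If `X` is
Noetherian of dimension `≤ d` and `E` is locally generated by `q` elements, then for `n_1 ≪ n_2 ≪ ⋯ ≪ n_{q+d}` there is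
an epimorphism `K n_1 ⊞ ⋯ ⊞ K n_{q+d} ⟶ E`.
-/

set_option autoImplicit false
universe u

open CategoryTheory CategoryTheory.Limits AlgebraicGeometry Opposite TopologicalSpace
open scoped ZeroObject

namespace Groth.Agent.Krr.H443.GenPos2

open Groth.Agent.Fdesc.Skyscraper Groth.Agent.Sga2.StalkGen68 Groth.Agent.Krr.H443.GenPos
open Groth.Agent.Krr.H443.GamAlg (Rapid)

variable {X : Scheme.{u}}

/-- The height function of a space of finite dimension. -/
theorem exists_height (d : ℕ) (hd : topologicalKrullDim ↥X ≤ (d : WithBot ℕ∞)) :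
    ∃ h : X → ℕ, (∀ x, h x ≤ d) ∧ ∀ x y : X, y ⤳ x → y ≠ x → h x < h y := by
  let c : X → IrreducibleCloseds X := fun x => ⟨closure {x}, isIrreducible_singleton.closure, isClosed_closure⟩
  have h1 : ∀ x, Order.height (c x) ≤ (d : ℕ∞) := by
    intro x
    have h := (Order.height_le_krullDim (c x)).trans hd
    exact WithBot.coe_le_coe.1 h
  have h2 : ∀ x, Order.height (c x) ≠ ⊤ := fun x h => by
    have := h1 x
    rw [h] at this
    exact absurd this (by simp)
  refine ⟨fun x => (Order.height (c x)).toNat, fun x => ?_, fun x y hyx hne => ?_⟩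
  · exact ENat.toNat_le_of_le_coe (h1 x)
  · have h3 : c x < c y := by
      refine lt_of_le_of_ne ?_ ?_
      · exact (specializes_iff_closure_subset.1 hyx)
      · intro h
        apply hne
        have h4 : closure {x} = closure {y} := congrArg (fun z : IrreducibleCloseds X => (z : Set X)) h
        exact (inseparable_iff_closure_eq.2 h4.symm).eq
    have h4 := Order.height_strictMono h3 (lt_top_iff_ne_top.2 (h2 x))
    obtain ⟨a, ha⟩ := ENat.ne_top_iff_exists.1 (h2 x)
    obtain ⟨b, hb⟩ := ENat.ne_top_iff_exists.1 (h2 y)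
    change (Order.height (c x)).toNat < (Order.height (c y)).toNat
    rw [← ha, ← hb] at h4 ⊢
    rw [ENat.toNat_coe, ENat.toNat_coe]
    exact_mod_cast h4

/-- The points of maximal height of a closed subset of a Noetherian space are finitely many. -/
theorem finite_of_height [NoetherianSpace X] {h : X → ℕ} (hh : ∀ x y : X, y ⤳ x → y ≠ x → h x < h y)
    {Z : Set X} (hZ : IsClosed Z) {n : ℕ} (hn : ∀ x ∈ Z, h x ≤ n) : {x ∈ Z | h x = n}.Finite := by
  obtain ⟨S, hS, hS1, hS2, rfl⟩ := NoetherianSpace.exists_finite_set_isClosed_irreducible hZ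
  have h1 : ∀ s : S, ∃ η : X, IsGenericPoint η s.1 := fun s =>
    QuasiSober.sober (hS2 s.1 s.2) (hS1 s.1 s.2)
  choose η hη using h1
  have := hS.to_subtype
  refine (Set.finite_range η).subset ?_
  rintro x ⟨hx, hxn⟩
  obtain ⟨s, hs, hxs⟩ := Set.mem_sUnion.1 hx
  refine ⟨⟨s, hs⟩, ?_⟩
  by_contra hne
  have h2 : η ⟨s, hs⟩ ⤳ x := (hη ⟨s, hs⟩).specializes hxs
  have h3 := hh x _ h2 hne
  have h4 := hn (η ⟨s, hs⟩) (Set.mem_sUnion.2 ⟨s, hs, (hη ⟨s, hs⟩).mem⟩)
  omega

/-- The abstract system. -/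
structure Sys (K : ℕ → X.Modules) (E : X.Modules) : Prop where
  gen : ∃ n₀ : ℕ, ∀ n, n₀ ≤ n → ∀ (Z : X.Modules) (h : E ⟶ Z), (∀ g : K n ⟶ E, g ≫ h = 0) → h = 0
  mul : ∀ (x : X) (W : X.Opens), x ∈ W → ∀ n₀ : ℕ, ∃ k₀ : ℕ, ∀ k, k₀ ≤ k → ∃ b : K (n₀ + k) ⟶ K n₀,
    Function.Surjective (stalkMap b x) ∧ ∀ y ∉ W, LinearMap.range (stalkMap b y) ≤
      IsLocalRing.maximalIdeal (X.presheaf.stalk y) •
        (⊤ : Submodule (X.presheaf.stalk y) ((K n₀).presheaf.stalk y))

variable {K : ℕ → X.Modules} {G E : X.Modules}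

theorem comp_toSky {M N : X.Modules} {x : X} {Q : Type u} [AddCommGroup Q] [Module (X.presheaf.stalk x) Q]
    (g : M ⟶ N) (q : N.presheaf.stalk x →ₗ[X.presheaf.stalk x] Q)
    (h : LinearMap.range (stalkMap g x) ≤ LinearMap.ker q) : g ≫ toSky q = 0 := by
  apply Scheme.Modules.hom_ext
  intro U
  ext s
  refine (funext fun hx => ?_ : (_ : Sec x Q U) = _)
  refine (toSky_app_apply q U _ hx).trans ?_
  have h1 : stalkMap g x (M.presheaf.germ U x hx.down s) ∈ LinearMap.ker q := h ⟨_, rfl⟩
  rw [stalkMap_germ] at h1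
  exact h1

theorem mkQ_eq_zero_of_toSky {N : X.Modules} {x : X} {Q : Type u} [AddCommGroup Q]
    [Module (X.presheaf.stalk x) Q] (q : N.presheaf.stalk x →ₗ[X.presheaf.stalk x] Q)
    (h : toSky q = 0) : q = 0 := by
  rw [← ofSky_toSky q]
  change ofSky (toSky q) = 0
  rw [h]
  ext t
  obtain ⟨V, hV, s, rfl⟩ := TopCat.Presheaf.exists_germ_eq N.presheaf t
  rw [ofSky_germ]
  rfl

/-- A morphism `K n ⟶ E` not vanishing at one point. -/
theorem exists_nz_one (hfin : ∀ x : X, Module.Finite (X.presheaf.stalk x) (E.presheaf.stalk x))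
    {n : ℕ} (hn : ∀ (Z : X.Modules) (h : E ⟶ Z), (∀ g : K n ⟶ E, g ≫ h = 0) → h = 0)
    (f : G ⟶ E) {x : X} (hx : ¬ GenAt f x 0) : ∃ g : K n ⟶ E, NZ f g x := by
  by_contra hcon
  push Not at hcon
  have hcon' : ∀ g : K n ⟶ E, LinearMap.range (stalkMap g x) ≤ BB f x := fun g => by
    have := hcon g
    rw [NZ, not_not] at this
    exact this
  apply BB_ne_top (hfin x) hx
  have h1 := hn _ (toSky (BB f x).mkQ) fun g => comp_toSky g _ (by
    rw [Submodule.ker_mkQ]; exact hcon' g)
  have h2 := mkQ_eq_zero_of_toSky _ h1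
  rw [← Submodule.ker_mkQ (BB f x), h2, LinearMap.ker_zero]

theorem range_add_le {M N : X.Modules} (g g' : M ⟶ N) (x : X)
    {B : Submodule (X.presheaf.stalk x) (N.presheaf.stalk x)}
    (h : LinearMap.range (stalkMap g x) ≤ B) (h' : LinearMap.range (stalkMap g' x) ≤ B) :
    LinearMap.range (stalkMap (g + g') x) ≤ B := by
  rintro _ ⟨m, rfl⟩
  have h1 : stalkMap (g + g') x m = stalkMap g x m + stalkMap g' x m := by
    obtain ⟨U, hU, s, rfl⟩ := TopCat.Presheaf.exists_germ_eq M.presheaf m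
    rw [stalkMap_germ, stalkMap_germ, stalkMap_germ, ← map_add]
    rfl
  rw [h1]
  exact B.add_mem (h ⟨m, rfl⟩) (h' ⟨m, rfl⟩)

theorem range_neg_le {M N : X.Modules} (g : M ⟶ N) (x : X)
    {B : Submodule (X.presheaf.stalk x) (N.presheaf.stalk x)}
    (h : LinearMap.range (stalkMap g x) ≤ B) : LinearMap.range (stalkMap (-g) x) ≤ B := by
  rintro _ ⟨m, rfl⟩
  have h1 : stalkMap (-g) x m = - stalkMap g x m := by
    obtain ⟨U, hU, s, rfl⟩ := TopCat.Presheaf.exists_germ_eq M.presheaf m
    rw [stalkMap_germ, stalkMap_germ, ← map_neg]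
    rfl
  rw [h1]
  exact B.neg_mem (h ⟨m, rfl⟩)

/-- Multiplying by something which vanishes at `y`. -/
theorem range_comp_le_of_vanish {M M' N : X.Modules} (b : M ⟶ M') (g : M' ⟶ N) (y : X)
    (h : LinearMap.range (stalkMap b y) ≤ IsLocalRing.maximalIdeal (X.presheaf.stalk y) • ⊤)
    (f : G ⟶ N) : LinearMap.range (stalkMap (b ≫ g) y) ≤ BB f y := by
  refine le_trans ?_ (le_sup_left : _ ≤ BB f y)
  rw [stalkMap_comp, LinearMap.range_comp]
  refine (Submodule.map_mono h).trans ?_
  rw [Submodule.map_smul'']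
  exact Submodule.smul_mono le_rfl le_top

/-- Simultaneous non-vanishing at finitely many points. -/
theorem select (hS : Sys K E) (hfin : ∀ x : X, Module.Finite (X.presheaf.stalk x) (E.presheaf.stalk x))
    (f : G ⟶ E) : ∀ (m : ℕ) (F : Finset X), F.card = m → (∀ x ∈ F, ¬ GenAt f x 0) →
      ∃ N : ℕ, ∀ n, N ≤ n → ∃ g : K n ⟶ E, ∀ x ∈ F, NZ f g x := by
  classical
  intro m
  induction m with
  | zero =>
    intro F hF _
    rw [Finset.card_eq_zero] at hF
    subst hF
    exact ⟨0, fun n _ => ⟨0, fun x hx => absurd hx (Finset.notMem_empty x)⟩⟩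
  | succ m ih =>
    intro F hF hx
    -- a point `x` of `F` which is not a specialization of the others
    have hne : F.Nonempty := by
      rw [← Finset.card_pos]; omega
    have hmax : ∃ x ∈ F, ∀ y ∈ F, y ⤳ x → y = x := by
      obtain ⟨x, hx⟩ := F.exists_maximal hne
      refine ⟨x, hx.1, fun y hy hyx => ?_⟩
      have h1 : y ≤ x := hx.2 hy (show x ≤ y from hyx)
      exact (Specializes.antisymm (show y ⤳ x from hyx) h1).eq
    obtain ⟨x, hxF, hxmax⟩ := hmax
    obtain ⟨N, hN⟩ := ih (F.erase x) (by rw [Finset.card_erase_of_mem hxF, hF]; rfl)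
      (fun y hy => hx y (Finset.mem_of_mem_erase hy))
    obtain ⟨n₀, hn₀⟩ := hS.gen
    obtain ⟨gx, hgx⟩ := exists_nz_one hfin (hn₀ n₀ le_rfl) f (hx x hxF)
    -- an open neighbourhood of `x` missing the other points
    let C : Set X := ⋃ y ∈ F.erase x, closure {y}
    have hC : IsClosed C := (F.erase x).finite_toSet.isClosed_biUnion fun y _ => isClosed_closure
    have hxC : x ∉ C := by
      intro h
      obtain ⟨y, hy, hxy⟩ := Set.mem_iUnion₂.1 h
      have := hxmax y (Finset.mem_of_mem_erase hy) (specializes_iff_mem_closure.2 hxy)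
      exact Finset.ne_of_mem_erase hy this
    let W : X.Opens := ⟨Cᶜ, hC.isOpen_compl⟩
    obtain ⟨k₀, hk₀⟩ := hS.mul x W hxC n₀
    refine ⟨max N (n₀ + k₀), fun n hn => ?_⟩
    obtain ⟨k, rfl⟩ : ∃ k, n = n₀ + k := ⟨n - n₀, by omega⟩
    obtain ⟨g, hg⟩ := hN (n₀ + k) (by omega)
    obtain ⟨b, hb, hb'⟩ := hk₀ k (by omega)
    by_cases hgx' : NZ f g x
    · refine ⟨g, fun y hy => ?_⟩
      by_cases hyx : y = x
      · rw [hyx]; exact hgx'
      · exact hg y (Finset.mem_erase.2 ⟨hyx, hy⟩)
    · rw [NZ, not_not] at hgx'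
      refine ⟨g + b ≫ gx, fun y hy => ?_⟩
      by_cases hyx : y = x
      · subst hyx
        intro hcon
        apply hgx
        have h1 := range_add_le (g + b ≫ gx) (-g) y hcon (range_neg_le g y hgx')
        have h2 : g + b ≫ gx + -g = b ≫ gx := by abel
        rw [h2, stalkMap_comp, LinearMap.range_comp, LinearMap.range_eq_top.2 hb, Submodule.map_top] at h1
        exact h1
      · intro hcon
        apply hg y (Finset.mem_erase.2 ⟨hyx, hy⟩)
        have hyW : y ∉ W := fun h => h (Set.mem_iUnion₂.2 ⟨y, Finset.mem_erase.2 ⟨hyx, hy⟩,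
          subset_closure rfl⟩)
        have h1 := range_comp_le_of_vanish b gx y (hb' y hyW) f
        have h2 := range_add_le (g + b ≫ gx) (-(b ≫ gx)) y hcon (range_neg_le _ y h1)
        have h3 : g + b ≫ gx + -(b ≫ gx) = g := by abel
        rwa [h3] at h2

/-- The iterated biproduct. -/
noncomputable def sumK (K : ℕ → X.Modules) : List ℕ → X.Modules
  | [] => 0
  | n :: l => K n ⊞ sumK K l

/-- The dimension count. -/
theorem rapid_epi [NoetherianSpace X] (hS : Sys K E) (hE : Coh.IsQCoh E) (hE' : CohB1.IsFT E)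
    {h : X → ℕ} (hh : ∀ x y : X, y ⤳ x → y ≠ x → h x < h y) : ∀ (w : ℕ) (G : X.Modules) (f : G ⟶ E),
      (∀ (x : X) (r : ℕ), ¬ GenAt f x r → r + 1 + h x ≤ w) →
      Rapid w (fun l => ∃ g : sumK K l ⟶ E, Epi (biprod.desc f g)) := by
  have hfin : ∀ x : X, Module.Finite (X.presheaf.stalk x) (E.presheaf.stalk x) :=
    Groth.Agent.Ega1.FTStalkFin.stalk_finite E hE'
  intro w
  induction w with
  | zero =>
    intro G f hf
    refine ⟨(0 : sumK K [] ⟶ E), ?_⟩
    have h1 : Epi f := by
      rw [Groth.Agent.Ega1.FTStalkFin.epi_iff_stalkMap_surjective]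
      intro x
      rw [← genAt_zero_iff]
      by_contra hcon
      have := hf x 0 hcon
      omega
    have h2 : Epi ((biprod.inl : G ⟶ G ⊞ sumK K []) ≫ biprod.desc f (0 : sumK K [] ⟶ E)) := by
      rw [biprod.inl_desc]; exact h1
    exact epi_of_epi (biprod.inl : G ⟶ G ⊞ sumK K []) _
  | succ w ih =>
    intro G f hf
    -- the bad points
    let B : ℕ → Set X := fun r => {x ∈ {x : X | ¬ GenAt f x r} | h x = w - r}
    have hB : ∀ r, (B r).Finite := by
      intro r
      refine finite_of_height hh ?_ ?_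
      · rw [← isOpen_compl_iff]
        have : {x : X | ¬ GenAt f x r}ᶜ = {x : X | GenAt f x r} := by
          ext x; simp
        rw [this]
        exact isOpen_genAt hE hE' f r
      · intro x hx
        have := hf x r hx
        omega
    have hBU : (⋃ r ∈ Finset.range (w + 1), B r).Finite := (Finset.range (w + 1)).finite_toSet.biUnion
      fun r _ => hB r
    obtain ⟨N, hN⟩ := select hS hfin f _ hBU.toFinset rfl (by
      intro x hx
      rw [Set.Finite.mem_toFinset] at hx
      obtain ⟨r, -, hr⟩ := Set.mem_iUnion₂.1 hx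
      exact fun h => hr.1 (h.mono (Nat.zero_le r)))
    refine ⟨N, fun n hn => ?_⟩
    obtain ⟨g, hg⟩ := hN n hn
    have h1 := ih (G ⊞ K n) (biprod.desc f g) (by
      intro x r hxr
      have h2 : ¬ GenAt f x r := fun h => hxr (h.biprod g)
      have h3 := hf x r h2
      by_contra hcon
      have h4 : h x = w - r := by omega
      have h5 : x ∈ hBU.toFinset := by
        rw [Set.Finite.mem_toFinset]
        exact Set.mem_iUnion₂.2 ⟨r, Finset.mem_coe.2 (Finset.mem_range.2 (by omega)), h2, h4⟩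
      apply hxr
      refine GenAt.of_nz ?_ (hg x h5)
      by_contra h6
      have h7 := hf x (r + 1) h6
      omega)
    refine h1.mono fun l _ ⟨g', hg'⟩ => ⟨biprod.desc g g', ?_⟩
    refine Preadditive.epi_of_cancel_zero _ fun {Z} k hk => ?_
    have e1 : f ≫ k = 0 := by
      have := congrArg (fun t => biprod.inl ≫ t) hk
      simpa using this
    have e2 : biprod.desc g g' ≫ k = 0 := by
      have := congrArg (fun t => biprod.inr ≫ t) hk
      rw [biprod.inr_desc_assoc, comp_zero] at this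
      exact this
    have e3 : g ≫ k = 0 := by
      have := congrArg (fun t => biprod.inl ≫ t) e2
      simpa using this
    have e4 : g' ≫ k = 0 := by
      have := congrArg (fun t => biprod.inr ≫ t) e2
      simpa using this
    rw [← cancel_epi (biprod.desc (biprod.desc f g) g'), comp_zero]
    refine biprod.hom_ext' _ _ (biprod.hom_ext' _ _ ?_ ?_) ?_
    · rw [biprod.inl_desc_assoc, biprod.inl_desc_assoc, e1, comp_zero, comp_zero]
    · rw [biprod.inl_desc_assoc, biprod.inr_desc_assoc, e3, comp_zero, comp_zero]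
    · rw [biprod.inr_desc_assoc, e4, comp_zero]

end Groth.Agent.Krr.H443.GenPos2
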