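import Groth.Agent.Krr.H443.GenPos2
import Groth.Agent.Ega2.AmpleGlobGen
import Groth.Agent.Ega2.AmpleSec
import Groth.Agent.PerfB.TensInv
import Groth.Agent.Grpsch.PicGrp
import Groth.Agent.Flat2H.FamOpen
import Groth.Agent.Ega1.GlobGenPt

/-!
# General position on a Noetherian scheme with an ample module

`Sys (fun n => L'^{⊗ n}) E` for `L` ample, `L'` the inverse of `L`, `E` coherent.
-/

set_option autoImplicit false
universe u

open CategoryTheory CategoryTheory.Limits AlgebraicGeometry Opposite TopologicalSpace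

namespace Groth.Agent.Krr.H443.GenPos3

open Groth.Agent.Fdesc.Skyscraper Groth.Agent.Sga2.StalkGen68 Groth.Agent.Krr.H443.GenPos
open Groth.Agent.Krr.H443.GenPos2 Groth.Agent.Fdesc.LocGen
open Groth.Agent.Krr.H443.GamAlg (Rapid)
open Groth.Agent.Grpsch.PicGrp

variable {X : Scheme.{u}}

theorem abs_key {C : Type*} [Category* C] [Preadditive C] (T T' : C ⥤ C) [T.Additive] [T'.Additive]
    (i₁ : T ⋙ T' ≅ 𝟭 C) (i₂ : T' ⋙ T ≅ 𝟭 C) {O E N' Z : C} (lam : T'.obj O ≅ N') (h : E ⟶ Z)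
    (h0 : ∀ g : N' ⟶ E, g ≫ h = 0) (s : O ⟶ T.obj E) : s ≫ T.map h = 0 := by
  have hT' : T'.Faithful := by
    have : (T' ⋙ T).Faithful := Functor.Faithful.of_iso i₂.symm
    exact Functor.Faithful.of_comp T' T
  apply T'.map_injective
  rw [T'.map_zero, ← cancel_mono (i₁.hom.app Z), zero_comp, T'.map_comp, Category.assoc]
  have h3 : T'.map (T.map h) ≫ i₁.hom.app Z = i₁.hom.app E ≫ h := i₁.hom.naturality h
  rw [h3, ← cancel_epi lam.inv, comp_zero]
  simpa only [Category.assoc] using h0 (lam.inv ≫ T'.map s ≫ i₁.hom.app E)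

theorem abs_faithful {C : Type*} [Category* C] [Preadditive C] (T T' : C ⥤ C) [T.Additive] [T'.Additive]
    (i₁ : T ⋙ T' ≅ 𝟭 C) {E Z : C} (h : E ⟶ Z) (h0 : T.map h = 0) : h = 0 := by
  have hT : T.Faithful := by
    have : (T ⋙ T').Faithful := Functor.Faithful.of_iso i₁.symm
    exact Functor.Faithful.of_comp T T'
  apply T.map_injective
  rw [h0, T.map_zero]

theorem epi_free_zero {M N : X.Modules} (κ : Type u) (p : (SheafOfModules.free κ : X.Modules) ⟶ M)
    (hp : Epi p) (h : M ⟶ N) (h0 : ∀ s : Coh.structureModule X ⟶ M, s ≫ h = 0) : h = 0 := by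
  have h5 : p ≫ h = p ≫ (0 : M ⟶ N) := by
    apply Ega1.GlobGenPt.free_hom_ext
    intro i
    have h6 := h0 (Ega1.GlobGenPt.inc i ≫ p)
    have h7 : Ega1.GlobGenPt.inc i ≫ p ≫ (0 : M ⟶ N) = 0 :=
      (Category.assoc _ _ _).symm.trans comp_zero
    exact ((Category.assoc _ _ _).symm.trans h6).trans h7.symm
  exact (cancel_epi p).1 h5

noncomputable def lam0 (N : X.Modules) :
    (DCoh.tensorRightMod N).obj (Coh.structureModule X) ≅ N := Ega2.Tens.lunit N

theorem key {E N N' : X.Modules} (e₁ : CohB1.tensorMod N N' ≅ Coh.structureModule X)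
    (e₂ : CohB1.tensorMod N' N ≅ Coh.structureModule X) (Z : X.Modules) (h : E ⟶ Z)
    (h0 : ∀ g : N' ⟶ E, g ≫ h = 0) (s : Coh.structureModule X ⟶ (DCoh.tensorRightMod N).obj E) :
    s ≫ (DCoh.tensorRightMod N).map h = 0 :=
  abs_key (DCoh.tensorRightMod N) (DCoh.tensorRightMod N') (PerfB.TensInv.tensorInvIso e₁)
    (PerfB.TensInv.tensorInvIso e₂) (lam0 N') h h0 s

/-- Joint epimorphy of the sections of `E ⊗ N`, transported to `N⁻¹ ⟶ E`. -/
theorem jointly_epi {E N N' : X.Modules} (e₁ : CohB1.tensorMod N N' ≅ Coh.structureModule X)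
    (e₂ : CohB1.tensorMod N' N ≅ Coh.structureModule X)
    (hg : Curv2.IsGloballyGenerated (CohB1.tensorMod E N)) (Z : X.Modules) (h : E ⟶ Z)
    (h0 : ∀ g : N' ⟶ E, g ≫ h = 0) : h = 0 := by
  obtain ⟨κ, p, hp⟩ := hg
  refine abs_faithful (DCoh.tensorRightMod N) (DCoh.tensorRightMod N') (PerfB.TensInv.tensorInvIso e₁) h
    ?_
  exact epi_free_zero (M := (DCoh.tensorRightMod N).obj E) κ p hp _ (key e₁ e₂ Z h h0)

/-- `X_v` neighbourhoods with `v` a section of `L^k`, for all large `k`. -/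
theorem exists_sec [QuasiSeparatedSpace X] {L : X.Modules} (hL : CohB1.IsAmple L) (x : X) (W : X.Opens)
    (hx : x ∈ W) : ∃ k₀ : ℕ, ∀ k, k₀ ≤ k → ∃ v : Coh.structureModule X ⟶ CohB1.tensorPow L k,
      x ∈ CohB1.genLocus _ v ∧ CohB1.genLocus _ v ≤ W := by
  have hcomp : CompactSpace X := hL.2.1
  obtain ⟨U, e, hxU, he⟩ := (isInvertible_iff L).mp hL.1 x
  obtain ⟨n, w, hxw, hw, -⟩ := Ega2.AmpleSec.exists_affine_genLocus_nhd hL (W ⊓ U) x ⟨hx, hxU⟩
  obtain ⟨k₀, hk₀⟩ := Ega2.AmpleSec.exists_sections hL.1 (Nat.succ_pos n) w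
    (res L (hw.trans inf_le_right) e) (he.res _) ∅ Set.finite_empty
  refine ⟨k₀, fun k hk => ?_⟩
  obtain ⟨v, hv, -⟩ := hk₀ k hk
  refine ⟨v, by rw [hv]; exact hxw, ?_⟩
  rw [hv]
  exact hw.trans inf_le_left

theorem stalkMap_surjective_of_iso {M N : X.Modules} (θ : M ≅ N) (x : X) :
    Function.Surjective (stalkMap θ.hom x) := by
  intro t
  refine ⟨stalkMap θ.inv x t, ?_⟩
  have h := stalkMap_comp θ.inv θ.hom x
  rw [θ.inv_hom_id, stalkMap_id] at h
  exact (LinearMap.congr_fun h t).symm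

/-- Multiplication by a section, on stalks. -/
theorem stalkMap_mulSec (F : X.Modules) {N : X.Modules} (hN : PicF.IsInvertible N)
    (v : Coh.structureModule X ⟶ N) (x : X) :
    (x ∈ CohB1.genLocus _ v → Function.Surjective (stalkMap (CohqB.SerTw.mulSec (sec v ⊤) F) x)) ∧
    (x ∉ CohB1.genLocus _ v → LinearMap.range (stalkMap (CohqB.SerTw.mulSec (sec v ⊤) F) x) ≤
      IsLocalRing.maximalIdeal (X.presheaf.stalk x) •
        (⊤ : Submodule (X.presheaf.stalk x) ((CohB1.tensorMod F N).presheaf.stalk x))) := by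
  obtain ⟨U, e, hxU, he⟩ := (isInvertible_iff N).mp hN x
  obtain ⟨c, hc⟩ := he.exists_eq (sec v U)
  have hc' : res N le_top (sec v ⊤) = c • e := by rw [res_sec, hc]
  obtain ⟨ε, hε⟩ := exists_stalkLin_mulSec F (sec v ⊤) he hc' hxU
  have h1 : CohB1.genLocus _ v ⊓ U = X.basicOpen c := genLocus_inf_eq v he hc
  have h2 : x ∈ CohB1.genLocus _ v ↔ IsUnit (X.presheaf.germ U x hxU c) := by
    rw [← Scheme.mem_basicOpen, ← h1]
    exact ⟨fun h => ⟨h, hxU⟩, fun h => h.1⟩
  rw [Ega1.FTStalkFin.stalkMap_eq_stalkLin]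
  constructor
  · intro hx t
    obtain ⟨a, ha⟩ := h2.1 hx
    refine ⟨ε.symm ((↑a⁻¹ : X.presheaf.stalk x) • t), ?_⟩
    rw [hε, LinearEquiv.apply_symm_apply, ← ha, smul_smul, Units.mul_inv, one_smul]
  · rintro hx _ ⟨m, rfl⟩
    rw [hε]
    exact Submodule.smul_mem_smul ((IsLocalRing.mem_maximalIdeal _).2 fun h => hx (h2.2 h)) trivial

/-- The system attached to an ample module. -/
theorem sys_of_isAmple [IsNoetherian X] {L L' : X.Modules} (hL : CohB1.IsAmple L)
    (hL' : PicF.IsInvertible L') (e : CohB1.tensorMod L L' ≅ Coh.structureModule X)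
    {E : X.Modules} (hE : Coh.IsCoh E) : Sys (fun n => CohB1.tensorPow L' n) E := by
  have hLi := hL.1
  have hmk : mk L' hL' = (mk L hLi)⁻¹ := by
    rw [eq_inv_iff_mul_eq_one, mul_comm, mk_mul_mk, mk_eq_one_iff]
    exact ⟨e⟩
  refine ⟨?_, ?_⟩
  · obtain ⟨n₀, hn₀⟩ := Ega2.AmpleGlobGen.exists_globGen hL hE
    refine ⟨n₀, fun n hn Z h h0 => ?_⟩
    have h1 : Nonempty (CohB1.tensorMod (CohB1.tensorPow L n) (CohB1.tensorPow L' n) ≅
        Coh.structureModule X) := by
      rw [← mk_eq_one_iff (isInvertible_tensorMod (isInvertible_tensorPow hLi n)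
        (isInvertible_tensorPow hL' n)), ← mk_mul_mk (isInvertible_tensorPow hLi n)
        (isInvertible_tensorPow hL' n), mk_tensorPow hLi, mk_tensorPow hL', hmk, ← mul_pow,
        mul_inv_cancel, one_pow]
    have h2 : Nonempty (CohB1.tensorMod (CohB1.tensorPow L' n) (CohB1.tensorPow L n) ≅
        Coh.structureModule X) := by
      rw [← mk_eq_one_iff (isInvertible_tensorMod (isInvertible_tensorPow hL' n)
        (isInvertible_tensorPow hLi n)), ← mk_mul_mk (isInvertible_tensorPow hL' n)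
        (isInvertible_tensorPow hLi n), mk_tensorPow hL', mk_tensorPow hLi, hmk, ← mul_pow,
        inv_mul_cancel, one_pow]
    obtain ⟨e₁⟩ := h1
    obtain ⟨e₂⟩ := h2
    exact jointly_epi e₁ e₂ (hn₀ n hn) Z h h0
  · intro x W hx n₀
    obtain ⟨k₀, hk₀⟩ := exists_sec hL x W hx
    refine ⟨k₀, fun k hk => ?_⟩
    obtain ⟨v, hxv, hvW⟩ := hk₀ k hk
    have hi := isInvertible_tensorPow hLi k
    have h1 : Nonempty (CohB1.tensorMod (CohB1.tensorPow L' (n₀ + k)) (CohB1.tensorPow L k) ≅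
        CohB1.tensorPow L' n₀) := by
      rw [← mk_eq_iff (isInvertible_tensorMod (isInvertible_tensorPow hL' (n₀ + k)) hi)
        (isInvertible_tensorPow hL' n₀), ← mk_mul_mk (isInvertible_tensorPow hL' (n₀ + k)) hi, mk_tensorPow hL', mk_tensorPow hLi, mk_tensorPow hL', hmk,
        pow_add, mul_assoc, ← mul_pow, inv_mul_cancel, one_pow, mul_one]
    obtain ⟨θ⟩ := h1
    refine ⟨CohqB.SerTw.mulSec (sec v ⊤) _ ≫ θ.hom, ?_, fun y hy => ?_⟩
    · rw [stalkMap_comp, LinearMap.coe_comp]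
      exact (stalkMap_surjective_of_iso θ x).comp ((stalkMap_mulSec _ hi v x).1 hxv)
    · have h2 := (stalkMap_mulSec (CohB1.tensorPow L' (n₀ + k)) hi v y).2 fun h => hy (hvW h)
      rw [stalkMap_comp, LinearMap.range_comp]
      refine (Submodule.map_mono h2).trans ?_
      rw [Submodule.map_smul'']
      exact Submodule.smul_mono le_rfl le_top

/-- General position: for `L` ample on `X` Noetherian of dimension `≤ d`, and `E` coherent whose stalks are generated by
`q` elements, for `n_1 ≪ n_2 ≪ ⋯ ≪ n_{q+d}` there is an epimorphism `⨁ L^{-n_j} ⟶ E`. -/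
theorem rapid_epi_ample [IsNoetherian X] {L L' : X.Modules} (hL : CohB1.IsAmple L)
    (hL' : PicF.IsInvertible L') (e : CohB1.tensorMod L L' ≅ Coh.structureModule X)
    {E : X.Modules} (hE : Coh.IsCoh E) (d q : ℕ) (hd : topologicalKrullDim ↥X ≤ (d : WithBot ℕ∞))
    (hq : ∀ x : X, ∃ m : Fin q → E.presheaf.stalk x, Submodule.span (X.presheaf.stalk x) (Set.range m) = ⊤) :
    Rapid (q + d) (fun l => ∃ g : sumK (fun n => CohB1.tensorPow L' n) l ⟶ E, Epi g) := by
  obtain ⟨h, hh, hh'⟩ := exists_height d hd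
  have : NoetherianSpace X := inferInstance
  have h1 := rapid_epi (sys_of_isAmple hL hL' e hE) hE.1 hE.2 hh' (q + d) E (0 : E ⟶ E) (by
    intro x r hx
    have h2 : r < q := by
      by_contra hcon
      apply hx
      obtain ⟨m, hm⟩ := hq x
      have h3 : GenAt (0 : E ⟶ E) x q := ⟨m, by rw [hm, top_sup_eq]⟩
      exact h3.mono (not_lt.1 hcon)
    have := hh x
    omega)
  refine h1.mono fun l _ ⟨g, hg⟩ => ⟨g, ?_⟩
  refine Preadditive.epi_of_cancel_zero _ fun {Z} k hk => ?_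
  rw [← cancel_epi (biprod.desc (0 : E ⟶ E) g), comp_zero]
  refine biprod.hom_ext' _ _ ?_ ?_
  · rw [biprod.inl_desc_assoc, zero_comp, comp_zero]
  · rw [biprod.inr_desc_assoc, hk, comp_zero]

end Groth.Agent.Krr.H443.GenPos3
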