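import Mathlib.Algebra.BigOperators.Fin
import Mathlib.Data.Nat.Choose.Sum
import Mathlib.Tactic.Ring

/-!
# `z (1 - l)^m = 0 → z = 0` from the freeness of `1, l, …, l^m`
-/

set_option autoImplicit false
universe v w

open Finset

namespace Groth.Agent.Krr.H443.InjOf

variable {K : Type v} [CommRing K] {K' : Type w} [CommRing K'] (q : K →+ K') (l : K') (m : ℕ)

theorem expand (z : K) : q z * (1 - l) ^ m =
    ∑ i : Fin (m + 1), q (((-1) ^ (i : ℕ) * (m.choose i : ℤ)) • z) * l ^ (i : ℕ) := by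
  rw [Fin.sum_univ_eq_sum_range (fun i => q (((-1) ^ i * (m.choose i : ℤ)) • z) * l ^ i) (m + 1),
    show (1 : K') - l = -l + 1 by ring, add_pow, mul_sum]
  refine sum_congr rfl fun i _ => ?_
  rw [map_zsmul, zsmul_eq_mul, one_pow, mul_one, neg_pow]
  push_cast
  ring

/-- If `1, l, …, l^m` are independent over `K` then `q z * (1 - l)^m = 0` implies `z = 0`. -/
theorem eq_zero_of_pow (hinj : Function.Injective
    (fun a : Fin (m + 1) → K => ∑ i : Fin (m + 1), q (a i) * l ^ (i : ℕ)))
    {z : K} (h : q z * (1 - l) ^ m = 0) : z = 0 := by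
  have h1 := hinj (a₁ := fun i => ((-1) ^ (i : ℕ) * (m.choose i : ℤ)) • z) (a₂ := fun _ => 0) (by
    simp only [map_zero, zero_mul, sum_const_zero]
    rw [← expand q l m z, h])
  have h2 := congrFun h1 (Fin.last m)
  simp only [Fin.val_last, Nat.choose_self, Nat.cast_one, mul_one] at h2
  rcases neg_one_pow_eq_or ℤ m with h3 | h3
  · rw [h3, one_zsmul] at h2
    exact h2
  · rw [h3, neg_zsmul, one_zsmul, neg_eq_zero] at h2
    exact h2

end Groth.Agent.Krr.H443.InjOf
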