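import Groth.Agent.Krr.H443.DimCond
import Groth.Agent.Krr.H443.InjOf
import Groth.Agent.Krr.H446.PushFilt
import Groth.Agent.Krr.H484.PnFree
import Groth.Agent.Krr.H484.PBCharts
import Groth.Agent.Krr.H488.PBK
import Groth.Agent.Krr.H488.Serre
import Groth.Agent.Krr.H487.PullExt

/-!
# The input on projective space for the dimension theorem

`pnInput`: for `l = [O(1)]` in `K(P^m_X)`: `(1 - l)^{m+1} = 0`, and `p^K(z) (1 - l)^m = 0 → z = 0`.
-/

set_option autoImplicit false
universe v u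

open CategoryTheory CategoryTheory.Limits AlgebraicGeometry KRR
open Groth.Agent.Krr.H443.DimCond

namespace Groth.Agent.Krr.H443.PnIn

theorem isFinLocFreeOfRank_freeMod (X : Scheme.{u}) (n : ℕ) :
    FlatMod.IsFinLocFreeOfRank n (FlatMod.freeMod X n) :=
  (Groth.Agent.Krr.H487.KerRank.isFinLocFreeOfRank_iff _).mpr fun _ =>
    ⟨⊤, trivial, _, Groth.Agent.Sga67.LocBasis.free_isLocBasis X n⟩

theorem pnInput : PnInput.{u} := by
  intro X _ _ L hL m K _ _ P φ hK K' _ _ P' φ' hK' q hq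
  have h1 : IsNoetherian (PY m X) := Groth.Agent.Krr.H452.QProjPn.isNoetherian_PY m ⟨L, hL⟩
  have hPB := Groth.Agent.Krr.H484.PnFree.isProjBundle_over m X
  have hE := isFinLocFreeOfRank_freeMod X (m + 1)
  refine ⟨φ' (cl (PY m X) (Twist.twistOver m X 1)),
    Groth.Agent.Krr.H483.LamTwist.isLine_cl hK' hPB.invertible, ?_, ?_⟩
  · have h2 := Groth.Agent.Krr.H487.PullExt.taut_relation hK' hK hq hE hPB.invertible _ hPB.epi
    rw [Groth.Agent.Krr.H442.AmpleClass.model_freeMod hK] at h2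
    have h3 := Groth.Agent.Krr.H446.PushFilt.sum_lam_natCast P
      (Groth.Agent.Krr.H482.PullLambda.pullRingHom hK' hK hq)
      (φ' (cl (PY m X) (Twist.twistOver m X 1))) m
    simp only [Groth.Agent.Krr.H482.PullLambda.pullRingHom_apply] at h3
    rw [h2] at h3
    rw [← neg_sub, neg_pow, ← h3, mul_zero]
  · intro z hz
    obtain ⟨ι, hι, A, hA, h, j, hh, hsurj, hpb, hO1⟩ := Groth.Agent.Krr.H484.PBCharts.exists_charts hE hPB
    have hO := Groth.Agent.Ega2.QCohLocal.isFinLocFreeOfRank_one_iff.1 hPB.invertible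
    let 𝔸 : Groth.Agent.Krr.H488.Atlas.Atlas m (pr m X) (Twist.twistOver m X 1) A h :=
      ⟨j, hpb, hsurj, hO1⟩
    exact InjOf.eq_zero_of_pow q _ m (Groth.Agent.Krr.H488.PBK.bijective 𝔸 hO hK hK' hq
      (fun i => Groth.Agent.Krr.H488.Serre.serreProp m (A i))).1 hz

end Groth.Agent.Krr.H443.PnIn
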